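import Groth.Agent.EtaleAlgebra.TameCompositum
import Mathlib.RingTheory.Unramified.LocalRing
import Mathlib.RingTheory.Filtration
import Mathlib.AlgebraicGeometry.ResidueField

/-!
# Points of unramified algebras over a DVR give tamely ramified extensions
-/

set_option autoImplicit false
set_option linter.style.haveILetI false
set_option linter.overlappingInstances false
universe u

namespace Groth.Misc3Ram

open IsLocalRing EtRam Groth.EtaleAlgebra CategoryTheory

/-- A field-valued point generating its field, of a finite unramified algebra over a DVR, is tamely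
ramified. -/
theorem tame_of_unramified_point {A B L : Type u} [CommRing A] [IsDomain A]
    [IsDiscreteValuationRing A] [CommRing B] [Algebra A B] [Module.Finite A B]
    [Algebra.FormallyUnramified A B] [Field L] (g : B →+* L)
    (hinj : Function.Injective (g.comp (algebraMap A B)))
    (hgen : Subfield.closure (Set.range g) = ⊤) :
    IsTamelyRamified A (g.comp (algebraMap A B)) := by
  intro W hW
  letI aAW : Algebra A W := (RingHom.codRestrict _ W hW.1).toAlgebra
  intro _
  obtain ⟨π, hπ'⟩ := IsDiscreteValuationRing.exists_irreducible A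
  have hπ : maximalIdeal A = Ideal.span {π} := hπ'.maximalIdeal_eq
  have hinjW : Function.Injective (algebraMap A W) := fun a b h => hinj (congrArg Subtype.val h)
  have hBW : ∀ b, g b ∈ W := fun b => by
    obtain ⟨p, hp, hpb⟩ := Algebra.IsIntegral.isIntegral (R := A) b
    let ι : A →+* W := RingHom.codRestrict _ W hW.1
    have hint : IsIntegral W (g b) :=
      ⟨p.map ι, hp.map ι, by
        rw [Polynomial.eval₂_map]
        exact (Polynomial.hom_eval₂ p (algebraMap A B) g b).symm.trans ((congrArg g hpb).trans (map_zero g))⟩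
    obtain ⟨v, hv⟩ := IsIntegrallyClosed.isIntegral_iff.1 hint
    rw [← hv]
    exact v.2
  let ι : B →+* W := RingHom.codRestrict g W hBW
  let q : Ideal B := (maximalIdeal W).comap ι
  haveI : q.IsPrime := Ideal.comap_isPrime _ _
  let Bq := Localization.AtPrime q
  let φ : Bq →+* W := IsLocalization.lift (M := q.primeCompl) (g := ι)
    fun s => notMem_maximalIdeal.1 s.2
  have hφ : ∀ a, φ (algebraMap A Bq a) = algebraMap A W a := fun a => by
    rw [IsScalarTower.algebraMap_apply A B Bq, IsLocalization.lift_eq]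
    rfl
  haveI : IsLocalHom (algebraMap A Bq) := ⟨fun a ha => by
    have h := ha.map φ
    rw [hφ] at h
    exact isUnit_of_map_unit _ _ h⟩
  haveI : IsNoetherianRing B := isNoetherian_of_tower A inferInstance
  haveI : IsNoetherianRing Bq := IsLocalization.isNoetherianRing q.primeCompl Bq inferInstance
  haveI : Algebra.FormallyUnramified B Bq :=
    Algebra.FormallyUnramified.of_isLocalization q.primeCompl
  haveI : Algebra.FormallyUnramified A Bq := Algebra.FormallyUnramified.comp A B Bq
  haveI : Algebra.EssFiniteType B Bq := Algebra.EssFiniteType.of_isLocalization Bq q.primeCompl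
  haveI : Algebra.EssFiniteType A Bq := Algebra.EssFiniteType.comp A B Bq
  let ϖ := algebraMap A Bq π
  have hm : maximalIdeal Bq = Ideal.span {ϖ} := by
    rw [← Algebra.FormallyUnramified.map_maximalIdeal (R := A) (S := Bq), hπ, Ideal.map_span,
      Set.image_singleton]
  have hunit : ∀ c : Bq, ¬ ϖ ∣ c → IsUnit c := fun c hc =>
    notMem_maximalIdeal.1 (by rwa [hm, Ideal.mem_span_singleton])
  have hdec : ∀ z : Bq, φ z ≠ 0 → ∃ (n : ℕ) (c : Bq), IsUnit c ∧ z = ϖ ^ n * c := fun z hz => by
    have hf : FiniteMultiplicity ϖ z := by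
      by_contra hc
      refine hz ?_
      have hz0 : z ∈ (⨅ n : ℕ, maximalIdeal Bq ^ n) := Ideal.mem_iInf.2 fun n => by
        rw [hm, Ideal.span_singleton_pow, Ideal.mem_span_singleton]
        exact (pow_dvd_pow ϖ n.le_succ).trans (FiniteMultiplicity.not_iff_forall.1 hc (n + 1))
      rw [Ideal.iInf_pow_eq_bot_of_isLocalRing _ (maximalIdeal.isMaximal Bq).ne_top,
        Ideal.mem_bot] at hz0
      rw [hz0, map_zero]
    obtain ⟨c, hc, hc'⟩ := hf.exists_eq_pow_mul_and_not_dvd
    exact ⟨_, c, hunit c hc', hc⟩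
  have hϖ0 : φ ϖ ≠ 0 := by
    rw [hφ]
    exact (map_ne_zero_iff _ hinjW).2 hπ'.ne_zero
  have hϖu : ¬ IsUnit (φ ϖ) := by
    rw [hφ]
    exact fun h => hπ'.not_isUnit (isUnit_of_map_unit _ _ h)
  have hsurj : Function.Surjective φ := fun w => by
    by_cases hw : w = 0
    · exact ⟨0, by rw [map_zero, hw]⟩
    have hmem : (w : L) ∈ Subfield.closure (Set.range g) := hgen ▸ trivial
    obtain ⟨y, hy, z, hz, hyz⟩ := Subfield.mem_closure_iff.1 hmem
    rw [← RingHom.coe_range, Subring.closure_eq] at hy hz
    obtain ⟨a, rfl⟩ := hy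
    obtain ⟨b, rfl⟩ := hz
    have hb : g b ≠ 0 := fun h => hw (Subtype.ext (by rw [← hyz, h, div_zero]; rfl))
    have ha : g a ≠ 0 := fun h => hw (Subtype.ext (by rw [← hyz, h, zero_div]; rfl))
    have hval : ∀ c : B, φ (algebraMap B Bq c) = ι c := fun c => IsLocalization.lift_eq _ _
    have hwb : w * φ (algebraMap B Bq b) = φ (algebraMap B Bq a) := by
      rw [hval, hval]
      exact Subtype.ext (by rw [MulMemClass.coe_mul, ← hyz]; exact div_mul_cancel₀ _ hb)
    obtain ⟨n, u, hu, hau⟩ := hdec (algebraMap B Bq a) (by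
      rw [hval]; exact fun h => ha (congrArg Subtype.val h))
    obtain ⟨m, v, hv, hbv⟩ := hdec (algebraMap B Bq b) (by
      rw [hval]; exact fun h => hb (congrArg Subtype.val h))
    rw [hau, hbv, map_mul, map_mul, map_pow, map_pow] at hwb
    rcases le_or_gt m n with hmn | hmn
    · obtain ⟨v', hv'⟩ := hv.exists_left_inv
      refine ⟨ϖ ^ (n - m) * u * v', ?_⟩
      refine mul_left_cancel₀ (pow_ne_zero m hϖ0) ?_
      have h1 : φ v' * φ v = 1 := by rw [← map_mul, hv', map_one]
      calc φ ϖ ^ m * φ (ϖ ^ (n - m) * u * v')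
          = φ ϖ ^ n * φ u * φ v' := by
            rw [map_mul, map_mul, map_pow, ← mul_assoc, ← mul_assoc, ← pow_add,
              Nat.add_sub_cancel' hmn]
        _ = w * (φ ϖ ^ m * φ v) * φ v' := by rw [hwb]
        _ = φ ϖ ^ m * w * (φ v' * φ v) := by ring
        _ = φ ϖ ^ m * w := by rw [h1, mul_one]
    · refine absurd ?_ hϖu
      obtain ⟨d, rfl⟩ := Nat.exists_eq_add_of_lt hmn
      have h1 : φ ϖ * (w * φ ϖ ^ d * φ v) = φ u := by
        refine mul_left_cancel₀ (pow_ne_zero n hϖ0) ?_
        rw [← hwb]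
        ring
      exact isUnit_of_mul_isUnit_left (h1 ▸ hu.map φ)
  haveI : IsLocalHom φ := ⟨fun z hz => by
    by_contra hn
    obtain ⟨c, hc⟩ := Ideal.mem_span_singleton.1 (hm ▸ (mem_maximalIdeal z).2 hn : z ∈ Ideal.span {ϖ})
    rw [hc, map_mul] at hz
    exact hϖu (isUnit_of_mul_isUnit_left hz)⟩
  haveI : IsNoetherianRing W := isNoetherianRing_of_surjective Bq W φ hsurj
  have hmax : IsWeaklyUnramified A W := by
    refine le_antisymm (((IsLocalRing.local_hom_TFAE (algebraMap A W)).out 0 2 rfl rfl).1 ‹_›) ?_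
    intro w hw
    obtain ⟨z, rfl⟩ := hsurj w
    have hz : z ∈ maximalIdeal Bq := fun hu => hw (hu.map φ)
    rw [hm, Ideal.mem_span_singleton] at hz
    obtain ⟨c, rfl⟩ := hz
    rw [map_mul, hφ]
    exact Ideal.mul_mem_right _ _ (Ideal.mem_map_of_mem _ (hπ.ge (Ideal.mem_span_singleton_self π)))
  haveI : IsPrincipalIdealRing W := inferInstance
  haveI : IsDiscreteValuationRing W :=
    { not_a_field' := fun h => hϖ0 (by
        have h1 : φ ϖ ∈ maximalIdeal W := hϖu
        rwa [h, Ideal.mem_bot] at h1) }
  refine ⟨?_, fun p hp _ hd => ?_⟩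
  · refine ⟨fun x => ?_⟩
    obtain ⟨w, rfl⟩ := residue_surjective x
    obtain ⟨z, rfl⟩ := hsurj w
    let F : ResidueField Bq →ₐ[ResidueField A] ResidueField W :=
      { ResidueField.map φ with
        commutes' := fun a => by
          obtain ⟨a, rfl⟩ := residue_surjective a
          exact congrArg (residue W) (hφ a) }
    have hs : IsSeparable (ResidueField A) (residue Bq z) := Algebra.IsSeparable.isSeparable _ _
    rw [IsSeparable] at hs ⊢
    show (minpoly (ResidueField A) (F (residue Bq z))).Separable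
    rwa [minpoly.algHom_eq F F.toRingHom.injective]
  · rw [(weaklyUnramified_iff A W hinjW).1 hmax] at hd
    exact hp.not_dvd_one hd

open AlgebraicGeometry in
/-- A point of an affine scheme over `Y` mapping onto `Y.fromSpecResidueField y` generates `κ(y)`. -/
theorem closure_range_eq_top {Y : Scheme.{u}} (y : Y) {B : Type u} [CommRing B]
    (g : B →+* Y.residueField y) (φ : Spec (.of B) ⟶ Y)
    (h : Spec.map (CommRingCat.ofHom g) ≫ φ = Y.fromSpecResidueField y) :
    Subfield.closure (Set.range g) = ⊤ := by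
  let J := Subfield.closure (Set.range g)
  let g' : B →+* J := g.codRestrict J fun b => Subfield.subset_closure ⟨b, rfl⟩
  let ι : CommRingCat.of J ⟶ Y.residueField y := CommRingCat.ofHom J.subtype
  let m : Spec (CommRingCat.of J) ⟶ Y := Spec.map (CommRingCat.ofHom g') ≫ φ
  have hg : Spec.map ι ≫ m = Y.fromSpecResidueField y := by
    rw [← h]
    simp only [m, ← Category.assoc, ← Spec.map_comp]
    rfl
  obtain ⟨⟨x, d⟩, hd⟩ := (Scheme.SpecToEquivOfField J Y).symm.surjective m
  replace hd : Spec.map d ≫ Y.fromSpecResidueField x = m := hd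
  obtain rfl : x = y := by
    have hp := congrArg (fun F : Spec (Y.residueField y) ⟶ Y =>
      F (IsLocalRing.closedPoint (Y.residueField y))) hg
    rw [← hd] at hp
    simpa using hp
  have hid : d ≫ ι = 𝟙 _ := by
    apply Spec.map_injective
    rw [← cancel_mono (Y.fromSpecResidueField x), Spec.map_comp, Category.assoc, hd, hg,
      Spec.map_id, Category.id_comp]
  refine eq_top_iff.2 fun z _ => ?_
  have : (ι.hom (d.hom z) : Y.residueField x) = z := congrArg (fun F => F.hom z) hid
  rw [← this]
  exact (d.hom z).2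

end Groth.Misc3Ram
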