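import Groth.Prelude.Def_FEt
import Groth.Prelude.Def_PiSp
import Mathlib.AlgebraicGeometry.ResidueField
import Mathlib.FieldTheory.Galois.Basic
import Mathlib.FieldTheory.IsAlgClosed.AlgebraicClosure
import Mathlib.RingTheory.Unramified.Field
import Mathlib.GroupTheory.Index

/-!
# Residue field extensions of Galois covers
-/

set_option autoImplicit false
universe u

open CategoryTheory AlgebraicGeometry

namespace Groth.Misc3Ram

/-- A point with values in a field factors through the residue field. -/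
theorem exists_factor {Z : Scheme.{u}} {L : Type u} [Field L] (r : Spec (CommRingCat.of L) ⟶ Z) (z : Z)
    (h : r (IsLocalRing.closedPoint L) = z) :
    ∃ φ : Z.residueField z ⟶ CommRingCat.of L, Spec.map φ ≫ Z.fromSpecResidueField z = r := by
  subst h
  exact ⟨_, (Scheme.descResidueField_stalkClosedPointTo_fromSpecResidueField L Z r)⟩

theorem finite_residueFieldMap' {T S : Scheme.{u}} (e : T ⟶ S) [LocallyOfFiniteType e]
    [FormallyUnramified e] (t : T) : (e.residueFieldMap t).hom.Finite := by
  let := (e.stalkMap t).hom.toAlgebra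
  have : IsLocalHom (algebraMap (S.presheaf.stalk (e t)) (T.presheaf.stalk t)) :=
    inferInstanceAs <| IsLocalHom (e.stalkMap t).hom
  have : Algebra.EssFiniteType (S.presheaf.stalk (e t)) (T.presheaf.stalk t) := by
    rw [← RingHom.essFiniteType_algebraMap]
    exact LocallyOfFiniteType.stalkMap e t
  have : Algebra.FormallyUnramified (S.presheaf.stalk (e t)) (T.presheaf.stalk t) :=
    AlgebraicGeometry.FormallyUnramified.stalkMap e t
  exact RingHom.finite_algebraMap.mpr (inferInstance : Module.Finite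
    (IsLocalRing.ResidueField (S.presheaf.stalk (e t))) (IsLocalRing.ResidueField (T.presheaf.stalk t)))

set_option maxHeartbeats 1000000 in
/-- Residue extensions of Galois covers are Galois of degree dividing the number of automorphisms. -/
theorem galois_residueField {X : Scheme.{u}} (Z : FEt.Cat X) (hZ : PiSp.IsGaloisCover Z) [Finite (Aut Z)]
    (z : Z.left) :
    letI : Algebra (X.residueField ((Z.hom : Z.left ⟶ X) z)) (Z.left.residueField z) :=
      (Scheme.Hom.residueFieldMap (Z.hom : Z.left ⟶ X) z).hom.toAlgebra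
    Module.Finite (X.residueField ((Z.hom : Z.left ⟶ X) z)) (Z.left.residueField z) ∧
      IsGalois (X.residueField ((Z.hom : Z.left ⟶ X) z)) (Z.left.residueField z) ∧
      Module.finrank (X.residueField ((Z.hom : Z.left ⟶ X) z)) (Z.left.residueField z) ∣ Nat.card (Aut Z) := by
  classical
  let pr : Z.left ⟶ X := Z.hom
  haveI : IsFinite pr := Z.prop.1
  haveI : Etale pr := Z.prop.2
  let K := X.residueField (pr z)
  let L := Z.left.residueField z
  letI : Algebra K L := (pr.residueFieldMap z).hom.toAlgebra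
  haveI : Algebra.IsSeparable K L := inferInstanceAs (Algebra.IsSeparable (X.residueField (pr z)) (Z.left.residueField z))
  haveI : Module.Finite K L := finite_residueFieldMap' pr z
  let s0 := Z.left.fromSpecResidueField z
  have hs0 : s0 ≫ pr = Spec.map (pr.residueFieldMap z) ≫ X.fromSpecResidueField _ :=
    (Scheme.Hom.SpecMap_residueFieldMap_fromSpecResidueField pr z).symm
  let Ω := AlgebraicClosure L
  let ι : CommRingCat.of L ⟶ CommRingCat.of Ω := CommRingCat.ofHom (algebraMap L Ω)
  let D : Subgroup (Aut Z) :=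
    { carrier := {σ | σ.hom.left z = z}
      one_mem' := by show (𝟙 Z : Z ⟶ Z).left z = z; simp
      mul_mem' := fun {σ τ} hσ hτ => by
        show (τ.hom ≫ σ.hom).left z = z
        rw [MorphismProperty.Comma.comp_left, Scheme.Hom.comp_apply, hτ, hσ]
      inv_mem' := fun {σ} hσ => by
        show σ.inv.left z = z
        conv_lhs => rw [← hσ]
        rw [← Scheme.Hom.comp_apply, ← MorphismProperty.Comma.comp_left, σ.hom_inv_id]
        simp }
  have hex : ∀ σ : D, ∃ φ : L ≃ₐ[K] L,
      Spec.map (CommRingCat.ofHom φ.toAlgHom.toRingHom) ≫ s0 = s0 ≫ σ.1.hom.left := by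
    intro σ
    obtain ⟨φ, hφ⟩ := exists_factor (L := L) (s0 ≫ σ.1.hom.left) z (by
      rw [Scheme.Hom.comp_apply, Scheme.fromSpecResidueField_apply]; exact σ.2)
    have hK : pr.residueFieldMap z ≫ φ = pr.residueFieldMap z := by
      apply Spec.map_injective
      rw [Spec.map_comp, ← cancel_mono (X.fromSpecResidueField (pr z)), Category.assoc]
      refine (congrArg (Spec.map φ ≫ ·) hs0.symm).trans (Eq.trans ?_ hs0)
      rw [← Category.assoc, hφ, Category.assoc]
      exact congrArg (s0 ≫ ·) (Over.w σ.1.hom.hom)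
    let f : L →ₐ[K] L := { φ.hom with commutes' := fun a => congrArg (fun ψ => ψ.hom a) hK }
    exact ⟨AlgEquiv.ofBijective f (Algebra.IsAlgebraic.algHom_bijective f), hφ⟩
  choose φ hφ using hex
  have huniq : ∀ (σ : D) (e : L ≃ₐ[K] L),
      Spec.map (CommRingCat.ofHom e.toAlgHom.toRingHom) ≫ s0 = s0 ≫ σ.1.hom.left → φ σ = e := by
    intro σ e he
    have h := congrArg (fun ψ : L ⟶ L => ψ.hom)
      (Spec.map_injective ((cancel_mono s0).1 ((hφ σ).trans he.symm)))
    exact AlgEquiv.ext fun a => DFunLike.congr_fun h a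
  let ψ : D →* (L ≃ₐ[K] L) := MonoidHom.mk' (fun σ => φ σ⁻¹) fun σ τ => by
    refine huniq _ _ ?_
    show Spec.map (CommRingCat.ofHom (((φ σ⁻¹).toAlgHom.toRingHom).comp ((φ τ⁻¹).toAlgHom.toRingHom))) ≫ s0 = _
    rw [CommRingCat.ofHom_comp, Spec.map_comp, Category.assoc, hφ, ← Category.assoc, hφ, Category.assoc,
      show ((σ * τ)⁻¹).1 = (τ⁻¹).1 * (σ⁻¹).1 by rw [mul_inv_rev]; rfl]
    rfl
  have hexτ : ∀ τ : L →ₐ[K] Ω, ∃ σ : D, (IsScalarTower.toAlgHom K L Ω).comp (φ σ).toAlgHom = τ := by
    intro τ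
    let t : Spec (CommRingCat.of Ω) ⟶ Z.left := Spec.map (CommRingCat.ofHom τ.toRingHom) ≫ s0
    let ξ := (Spec.map ι ≫ s0) ≫ Z.hom
    have ht : t ≫ Z.hom = ξ := by
      show (Spec.map _ ≫ s0) ≫ Z.hom = (Spec.map ι ≫ s0) ≫ Z.hom
      rw [Category.assoc, Category.assoc, hs0, ← Category.assoc, ← Category.assoc, ← Spec.map_comp,
        ← Spec.map_comp]
      congr 2
      ext a
      exact (τ.commutes a).trans (IsScalarTower.algebraMap_apply K L Ω a)
    obtain ⟨σ, hσ⟩ := hZ.2 Ω ξ ⟨Spec.map ι ≫ s0, rfl⟩ ⟨t, ht⟩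
    have hst : (Spec.map ι ≫ s0) ≫ σ.hom.left = t := congrArg Subtype.val hσ
    have hz : σ.hom.left z = z := by
      have h := congrArg (fun f => f (IsLocalRing.closedPoint Ω)) hst
      simp only [t, Scheme.Hom.comp_apply, s0] at h
      erw [Scheme.fromSpecResidueField_apply, Scheme.fromSpecResidueField_apply] at h
      exact h
    refine ⟨⟨σ, hz⟩, ?_⟩
    have h : CommRingCat.ofHom ((φ ⟨σ, hz⟩).toAlgHom.toRingHom) ≫ ι = CommRingCat.ofHom τ.toRingHom := by
      apply Spec.map_injective
      rw [Spec.map_comp, ← cancel_mono s0, Category.assoc, hφ, ← Category.assoc]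
      exact hst
    exact AlgHom.ext fun a => congrArg (fun f => f.hom a) h
  have hemb : Function.Surjective fun g : L ≃ₐ[K] L => (IsScalarTower.toAlgHom K L Ω).comp g.toAlgHom :=
    fun τ => let ⟨σ, hσ⟩ := hexτ τ; ⟨φ σ, hσ⟩
  have hcard : Nat.card (L →ₐ[K] Ω) = Module.finrank K L := by
    rw [Nat.card_eq_fintype_card, AlgHom.card]
  haveI : IsGalois K L := by
    refine IsGalois.of_card_aut_eq_finrank K L (le_antisymm ?_ ?_)
    · rw [Nat.card_eq_fintype_card]; exact AlgEquiv.card_le
    · exact hcard ▸ Nat.card_le_card_of_surjective _ hemb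
  refine ⟨inferInstance, inferInstance, ?_⟩
  rw [← IsGalois.card_aut_eq_finrank]
  have hψ : Function.Surjective ψ := fun g => by
    obtain ⟨σ, hσ⟩ := hexτ ((IsScalarTower.toAlgHom K L Ω).comp g.toAlgHom)
    refine ⟨σ⁻¹, (congrArg φ (inv_inv _)).trans (AlgEquiv.ext fun a => (algebraMap L Ω).injective ?_)⟩
    exact DFunLike.congr_fun hσ a
  exact (Subgroup.card_dvd_of_surjective ψ hψ).trans (Subgroup.card_subgroup_dvd_card D)

end Groth.Misc3Ram
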