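import Groth.Agent.EtaleAlgebra.EtRamBasic
import Mathlib.NumberTheory.RamificationInertia.Galois
import Mathlib.RingTheory.RamificationInertia.Ramification
import Mathlib.RingTheory.RamificationInertia.Inertia
import Mathlib.RingTheory.Invariant.Galois
import Mathlib.RingTheory.DedekindDomain.IntegralClosure
import Mathlib.RingTheory.Flat.TorsionFree
import Mathlib.FieldTheory.Separable

/-!
# Galois extensions of degree invertible in the valuation ring are tamely ramified
-/

set_option autoImplicit false
set_option linter.style.haveILetI false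
universe u

namespace Groth.Misc3Ram

open IsLocalRing EtRam Groth.EtaleAlgebra Polynomial

set_option synthInstance.maxHeartbeats 200000 in
set_option maxHeartbeats 1000000 in
/-- A finite Galois extension of degree invertible in `A` is tamely ramified. -/
theorem tame_of_isGalois (A K L : Type u) [CommRing A] [IsDomain A] [IsDiscreteValuationRing A]
    [Field K] [Algebra A K] [IsFractionRing A K] [Field L] [Algebra K L] [FiniteDimensional K L]
    [IsGalois K L] (hn : IsUnit ((Module.finrank K L : ℕ) : A)) :
    IsTamelyRamified A ((algebraMap K L).comp (algebraMap A K)) := by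
  classical
  intro V hV
  letI : Algebra A V := (RingHom.codRestrict _ V hV.1).toAlgebra
  intro _
  haveI : IsDiscreteValuationRing V := isDiscreteValuationRing_of_dominates A K L hV
  letI : Algebra A L := ((algebraMap K L).comp (algebraMap A K)).toAlgebra
  haveI : IsScalarTower A K L := IsScalarTower.of_algebraMap_eq' rfl
  haveI : IsScalarTower A V L := IsScalarTower.of_algebraMap_eq fun _ => rfl
  let B := integralClosure A L
  haveI : IsDedekindDomain B := IsIntegralClosure.isDedekindDomain A K L B
  haveI : Module.Finite A B := IsIntegralClosure.finite A K L B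
  haveI : IsFractionRing B L := integralClosure.isFractionRing_of_finite_extension K L
  letI := IsIntegralClosure.MulSemiringAction A K L B
  have hinj : Function.Injective (algebraMap A B) := fun a b hab =>
    IsFractionRing.injective A K ((algebraMap K L).injective (congrArg Subtype.val hab))
  haveI : FaithfulSMul A B := (faithfulSMul_iff_algebraMap_injective A B).2 hinj
  haveI : Module.Flat A B := inferInstance
  haveI hG : IsGaloisGroup (L ≃ₐ[K] L) A B := IsGaloisGroup.of_isFractionRing _ _ _ K L
  have hBV : ∀ c : B, (c : L) ∈ V := fun c => by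
    obtain ⟨p, hp, hpc⟩ := c.2
    let ι : A →+* V := RingHom.codRestrict _ V hV.1
    have hint : IsIntegral V (c : L) :=
      ⟨p.map ι, hp.map ι, by rw [Polynomial.eval₂_map]; exact hpc⟩
    obtain ⟨v, hv⟩ := IsIntegrallyClosed.isIntegral_iff.1 hint
    rw [← hv]
    exact v.2
  let ι : B →+* V := RingHom.codRestrict B.val.toRingHom V hBV
  let m : Ideal B := (maximalIdeal V).comap ι
  haveI : m.IsPrime := Ideal.comap_isPrime _ _
  have hcomap : m.comap (algebraMap A B) = maximalIdeal A := by
    ext a
    exact (map_mem_nonunits_iff (algebraMap A V) a :)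
  haveI : m.LiesOver (maximalIdeal A) := ⟨hcomap.symm⟩
  have hm0 : m ≠ ⊥ := fun h => IsDiscreteValuationRing.not_a_field A (by
    rw [← hcomap, h, Ideal.comap_bot_of_injective _ hinj])
  haveI : m.IsMaximal := Ideal.IsPrime.isMaximal inferInstance hm0
  -- `V` is the localization at `m`
  let Bm := Localization.AtPrime m
  haveI : IsDiscreteValuationRing Bm := IsLocalization.AtPrime.isDiscreteValuationRing_of_dedekind_domain B hm0 Bm
  have hu : ∀ s : m.primeCompl, IsUnit (ι s) := fun s => by
    by_contra h
    exact s.2 ((mem_maximalIdeal _).2 h)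
  let g : Bm →+* V := IsLocalization.lift hu
  have hg : ∀ b : B, g (algebraMap B Bm b) = ι b := fun b => IsLocalization.lift_eq hu b
  have hgi : Function.Injective g := by
    rw [IsLocalization.lift_injective_iff]
    intro x y
    rw [(IsLocalization.injective Bm m.primeCompl_le_nonZeroDivisors).eq_iff]
    refine ⟨fun h => h ▸ rfl, fun h => ?_⟩
    exact Subtype.ext (congrArg (fun z : V => (z : L)) h :)
  haveI : IsLocalHom g := ⟨fun x hx => by
    obtain ⟨b, s, rfl⟩ := IsLocalization.exists_mk'_eq m.primeCompl x
    rw [IsLocalization.AtPrime.isUnit_mk'_iff]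
    intro hb
    refine (mem_maximalIdeal _).1 (show ι b ∈ maximalIdeal V from hb) ?_
    have h := congrArg g (IsLocalization.mk'_spec Bm b s)
    rw [map_mul, hg, hg] at h
    exact h ▸ hx.mul (hu s)⟩
  have hgs : Function.Surjective g := fun v => by
    obtain ⟨⟨b, s⟩, hbs⟩ := IsLocalization.surj (nonZeroDivisors B) (v : L)
    have hs0 : algebraMap B Bm (s : B) ≠ 0 := fun h => nonZeroDivisors.ne_zero s.2
      ((map_eq_zero_iff _ (IsLocalization.injective Bm m.primeCompl_le_nonZeroDivisors)).1 h)
    have hv : v * ι s = ι b := Subtype.ext hbs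
    rcases ValuationRing.cond (algebraMap B Bm b) (algebraMap B Bm (s : B)) with ⟨c, hc | hc⟩
    · by_cases hcu : IsUnit c
      · obtain ⟨c, rfl⟩ := hcu
        refine ⟨↑c⁻¹, mul_right_cancel₀ (b := g (algebraMap B Bm (s : B))) ?_ ?_⟩
        · exact fun h => hs0 (hgi (h.trans (map_zero g).symm))
        · rw [← map_mul, show (↑c⁻¹ : Bm) * algebraMap B Bm (s : B) = algebraMap B Bm b by
            rw [← hc, mul_left_comm, Units.inv_mul, mul_one], hg, hg, hv]
      · exfalso
        have h := congrArg g hc
        rw [map_mul, hg, hg, ← hv] at h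
        have hs : ι (s : B) ≠ 0 := fun h0 => hs0 (hgi ((hg _).trans (h0.trans (map_zero g).symm)))
        have h1 : v * g c = 1 := mul_left_cancel₀ hs (by rw [mul_one, ← mul_assoc, mul_comm (ι (s : B))]; exact h)
        exact hcu (isUnit_of_map_unit g c (IsUnit.of_mul_eq_one_right _ h1))
    · refine ⟨c, mul_right_cancel₀ (b := g (algebraMap B Bm (s : B))) ?_ ?_⟩
      · exact fun h => hs0 (hgi (h.trans (map_zero g).symm))
      · rw [← map_mul, mul_comm c, hc, hg, hg, hv]
  let ge : Bm ≃+* V := RingEquiv.ofBijective g ⟨hgi, hgs⟩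
  have hAV : Function.Injective (algebraMap A V) := fun a b hab =>
    IsFractionRing.injective A K ((algebraMap K L).injective (congrArg Subtype.val hab))
  obtain ⟨e, he1, he, he'⟩ := exists_map_maximalIdeal_eq_pow A V hAV
  -- the ramification index
  have hme : m.ramificationIdx A = e := by
    have h1 : (maximalIdeal A).map (algebraMap A Bm) = maximalIdeal Bm ^ e := by
      have hfac : (ge : Bm →+* V).comp (algebraMap A Bm) = algebraMap A V := RingHom.ext fun a => by
        show g (algebraMap A Bm a) = _
        rw [IsScalarTower.algebraMap_apply A B Bm, hg]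
        rfl
      refine (Ideal.comap_map_of_bijective (ge : Bm →+* V) ge.bijective).symm.trans (Eq.trans (congrArg (Ideal.comap (ge : Bm →+* V)) ?_)
        (Ideal.comap_map_of_bijective (ge : Bm →+* V) ge.bijective))
      rw [Ideal.map_pow, Ideal.map_map, hfac, he]
      congr 1
      exact (IsLocalRing.map_ringEquiv_maximalIdeal ge).symm
    rw [Ideal.ramificationIdx_eq (maximalIdeal A) m, h1,
      IsDiscreteValuationRing.length_quotient_pow_maximalIdeal, ENat.toNat_natCast]
  -- the residue field
  letI algq : Algebra (B ⧸ m) (ResidueField V) :=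
    (Ideal.Quotient.lift m ((residue V).comp ι) fun b hb => (residue_eq_zero_iff _).2 hb).toAlgebra
  haveI : IsScalarTower A V (ResidueField V) := IsScalarTower.of_algebraMap_eq fun _ => rfl
  letI : Algebra B (ResidueField V) := ((residue V).comp ι).toAlgebra
  haveI : IsScalarTower B (B ⧸ m) (ResidueField V) := IsScalarTower.of_algebraMap_eq (R := B) (S := B ⧸ m) fun _ => rfl
  haveI : IsScalarTower A B (ResidueField V) := IsScalarTower.of_algebraMap_eq fun _ => rfl
  have hbij : Function.Bijective (algebraMap (B ⧸ m) (ResidueField V)) := by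
    letI := Ideal.Quotient.field m
    refine ⟨RingHom.injective _, fun x => ?_⟩
    obtain ⟨v, rfl⟩ := residue_surjective x
    obtain ⟨y, rfl⟩ := hgs v
    obtain ⟨b, s, rfl⟩ := IsLocalization.exists_mk'_eq m.primeCompl y
    refine ⟨Ideal.Quotient.mk m b / Ideal.Quotient.mk m (s : B), ?_⟩
    rw [map_div₀, div_eq_iff]
    · show residue V (ι b) = residue V (g _) * residue V (ι s)
      rw [← map_mul, ← hg, ← hg, ← map_mul, IsLocalization.mk'_spec]
    · exact fun h => (mem_maximalIdeal _).1 ((residue_eq_zero_iff _).1 h) (hu s)
  haveI : IsFractionRing (B ⧸ m) (ResidueField V) := by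
    letI := Ideal.Quotient.field m
    exact IsLocalization.isLocalization_of_algEquiv _
      (AlgEquiv.ofBijective (Algebra.ofId (B ⧸ m) (ResidueField V)) hbij)
  letI : Algebra (A ⧸ maximalIdeal A) (ResidueField A) := (RingHom.id (ResidueField A)).toAlgebra
  haveI : IsFractionRing (A ⧸ maximalIdeal A) (ResidueField A) :=
    (inferInstance : IsFractionRing (ResidueField A) (ResidueField A))
  haveI : IsScalarTower A (A ⧸ maximalIdeal A) (ResidueField A) := IsScalarTower.of_algebraMap_eq fun _ => rfl
  haveI : IsScalarTower A (ResidueField A) (ResidueField V) := IsScalarTower.of_algebraMap_eq fun a => by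
    rw [IsScalarTower.algebraMap_apply A V (ResidueField V)]
    rfl
  have hmf : m.inertiaDeg A = Module.finrank (ResidueField A) (ResidueField V) :=
    Ideal.inertiaDeg_eq_of_isFractionRing (maximalIdeal A) m (ResidueField A) (ResidueField V)
  -- the fundamental identity
  have H := Ideal.ncard_primesOver_mul_ramificationIdxIn_mul_inertiaDegIn (maximalIdeal A) B (L ≃ₐ[K] L)
  rw [Ideal.ramificationIdxIn_eq_ramificationIdx (maximalIdeal A) m (L ≃ₐ[K] L),
    Ideal.inertiaDegIn_eq_inertiaDeg (maximalIdeal A) m (L ≃ₐ[K] L), hme, hmf,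
    IsGalois.card_aut_eq_finrank] at H
  have he_dvd : e ∣ Module.finrank K L := H ▸ (dvd_mul_right _ _).mul_left _
  have hf_dvd : Module.finrank (ResidueField A) (ResidueField V) ∣ Module.finrank K L :=
    H ▸ (dvd_mul_left _ _).mul_left _
  have hnr : ((Module.finrank K L : ℕ) : ResidueField A) ≠ 0 := by
    rw [← map_natCast (residue A)]
    exact (hn.map _).ne_zero
  have hnp : ∀ p : ℕ, p.Prime → CharP (ResidueField A) p → ¬ p ∣ Module.finrank K L := fun p _ hc h =>
    hnr ((CharP.cast_eq_zero_iff (ResidueField A) p _).2 h)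
  haveI : Module.Finite (ResidueField A) (ResidueField V) := Module.finite_of_finrank_pos
    (Nat.pos_of_ne_zero fun h => by
      rw [h, Nat.zero_dvd] at hf_dvd
      exact hnr (by rw [hf_dvd, Nat.cast_zero]))
  refine ⟨⟨fun x => ?_⟩, fun p hp hc hd => hnp p hp hc ((he' ▸ hd).trans he_dvd)⟩
  have hint : IsIntegral (ResidueField A) x := Algebra.IsIntegral.isIntegral x
  have hirr := minpoly.irreducible hint
  obtain ⟨p, hc⟩ := CharP.exists (ResidueField A)
  rcases CharP.char_is_prime_or_zero (ResidueField A) p with hp | rfl
  · haveI : Fact p.Prime := ⟨hp⟩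
    rcases separable_or p hirr with h | ⟨-, q, -, hq⟩
    · exact h
    · exfalso
      refine hnp p hp hc ((Dvd.intro_left q.natDegree ?_).trans ((minpoly.degree_dvd hint).trans hf_dvd))
      rw [← hq, natDegree_expand]
  · haveI := CharP.charP_to_charZero (ResidueField A)
    exact hirr.separable

end Groth.Misc3Ram
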