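import Groth.Agent.EtaleAlgebra.TameCompositum
import Mathlib.RingTheory.AdjoinRoot

/-!
# Tame extensions become unramified over `A[z]/(z^e - π)`
-/

set_option autoImplicit false
set_option linter.style.haveILetI false
set_option linter.overlappingInstances false
universe u

namespace Groth.Misc3Ram

open IsLocalRing EtRam Groth.EtaleAlgebra Polynomial

variable {A : Type u} [CommRing A] [IsDomain A] [IsDiscreteValuationRing A] {π : A} {e : ℕ}

/-- Evaluation of `A[z]/(z^e - π)` at `z = 0` in the residue field. -/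
noncomputable def evalZero (hπ : maximalIdeal A = Ideal.span {π}) (he : 0 < e) :
    AdjoinRoot (X ^ e - C π : A[X]) →+* ResidueField A :=
  AdjoinRoot.lift (residue A) 0 (by
    simp [zero_pow he.ne', (residue_eq_zero_iff π).2 (hπ.ge (Ideal.mem_span_singleton_self π))])

theorem exists_of_add_root_mul (x : AdjoinRoot (X ^ e - C π : A[X])) :
    ∃ (a : A) (q : AdjoinRoot (X ^ e - C π : A[X])),
      x = AdjoinRoot.of _ a + AdjoinRoot.root _ * q := by
  obtain ⟨p, rfl⟩ := AdjoinRoot.mk_surjective x
  refine ⟨p.coeff 0, AdjoinRoot.mk _ p.divX, ?_⟩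
  conv_lhs => rw [← p.X_mul_divX_add]
  rw [map_add, map_mul, AdjoinRoot.mk_X, AdjoinRoot.mk_C, add_comm]

theorem root_pow : (AdjoinRoot.root (X ^ e - C π : A[X])) ^ e = AdjoinRoot.of _ π := by
  have h := AdjoinRoot.eval₂_root (X ^ e - C π : A[X])
  rw [eval₂_sub, eval₂_X_pow, eval₂_C] at h
  exact sub_eq_zero.1 h

theorem isMaximal_span_root (hπ : maximalIdeal A = Ideal.span {π}) (he : 0 < e) :
    (Ideal.span {AdjoinRoot.root (X ^ e - C π : A[X])}).IsMaximal := by
  have hk : Ideal.span {AdjoinRoot.root (X ^ e - C π : A[X])} = RingHom.ker (evalZero hπ he) := by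
    refine le_antisymm ((Ideal.span_singleton_le_iff_mem _).2 (AdjoinRoot.lift_root _)) fun x hx => ?_
    obtain ⟨a, q, rfl⟩ := exists_of_add_root_mul x
    rw [RingHom.mem_ker, map_add, map_mul, evalZero, AdjoinRoot.lift_root, zero_mul, add_zero,
      AdjoinRoot.lift_of, residue_eq_zero_iff, hπ, Ideal.mem_span_singleton] at hx
    obtain ⟨c, rfl⟩ := hx
    refine add_mem ?_ (Ideal.mul_mem_right _ _ (Ideal.mem_span_singleton_self _))
    rw [map_mul, ← root_pow]
    exact Ideal.mul_mem_right _ _ (Ideal.pow_mem_of_mem _ (Ideal.mem_span_singleton_self _) e he)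
  rw [hk]
  exact RingHom.ker_isMaximal_of_surjective _ fun y => by
    obtain ⟨a, rfl⟩ := residue_surjective y
    exact ⟨AdjoinRoot.of _ a, AdjoinRoot.lift_of _⟩

theorem eq_span_root (hπ : maximalIdeal A = Ideal.span {π}) (he : 0 < e)
    (M : Ideal (AdjoinRoot (X ^ e - C π : A[X]))) [hM : M.IsPrime] (hle : AdjoinRoot.of _ π ∈ M) :
    M = Ideal.span {AdjoinRoot.root (X ^ e - C π : A[X])} := by
  refine ((isMaximal_span_root hπ he).eq_of_le hM.ne_top ((Ideal.span_singleton_le_iff_mem _).2 ?_)).symm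
  exact hM.mem_of_pow_mem e (root_pow (π := π) (e := e) ▸ hle)

theorem isLocalRing_adjoinRoot (hπ : maximalIdeal A = Ideal.span {π}) (he : 0 < e) :
    IsLocalRing (AdjoinRoot (X ^ e - C π : A[X])) := by
  refine .of_unique_max_ideal ⟨_, isMaximal_span_root hπ he, fun M hM => eq_span_root hπ he M ?_⟩
  haveI : Module.Finite A (AdjoinRoot (X ^ e - C π : A[X])) := (monic_X_pow_sub_C π he.ne').finite_adjoinRoot
  haveI : Algebra.IsIntegral A (AdjoinRoot (X ^ e - C π : A[X])) := Algebra.IsIntegral.of_finite _ _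
  have := IsLocalRing.eq_maximalIdeal
    (Ideal.isMaximal_comap_of_isIntegral_of_isMaximal (R := A) M)
  exact (this.ge (hπ.ge (Ideal.mem_span_singleton_self π)) :)

variable {L : Type u} [Field L] [IsLocalRing (AdjoinRoot (X ^ e - C π : A[X]))]
  (g : AdjoinRoot (X ^ e - C π : A[X]) →+* L)

theorem maximalIdeal_adjoinRoot (hπ : maximalIdeal A = Ideal.span {π}) (he : 0 < e) :
    maximalIdeal (AdjoinRoot (X ^ e - C π : A[X])) =
      Ideal.span {AdjoinRoot.root (X ^ e - C π : A[X])} :=
  (eq_maximalIdeal (isMaximal_span_root hπ he)).symm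

theorem dominates_of_adjoinRoot (hπ : maximalIdeal A = Ideal.span {π}) (he : 0 < e) {W : ValuationSubring L}
    (h : Dominates A (g.comp (AdjoinRoot.of _)) W) :
    Dominates (AdjoinRoot (X ^ e - C π : A[X])) g W := by
  have hroot : W.valuation (g (AdjoinRoot.root _)) < 1 := by
    have h1 := h.2 π (hπ.ge (Ideal.mem_span_singleton_self π))
    rw [RingHom.comp_apply, ← root_pow, map_pow, map_pow] at h1
    exact (pow_lt_one_iff he.ne').1 h1
  have hmem : ∀ x, g x ∈ W := fun x => by
    obtain ⟨p, rfl⟩ := AdjoinRoot.mk_surjective x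
    induction p using Polynomial.induction_on with
    | C a => rw [AdjoinRoot.mk_C]; exact h.1 a
    | add p q hp hq => rw [map_add, map_add]; exact add_mem hp hq
    | monomial n a _ =>
      rw [map_mul, map_pow, AdjoinRoot.mk_C, AdjoinRoot.mk_X, map_mul, map_pow]
      exact mul_mem (h.1 a) (pow_mem ((W.valuation_le_one_iff _).1 hroot.le) _)
  refine ⟨hmem, fun x hx => ?_⟩
  rw [maximalIdeal_adjoinRoot hπ he, Ideal.mem_span_singleton] at hx
  obtain ⟨c, rfl⟩ := hx
  rw [map_mul, map_mul]
  exact mul_lt_one_of_lt_of_le hroot ((W.valuation_le_one_iff _).2 (hmem c))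

theorem surjective_residue_of (hπ : maximalIdeal A = Ideal.span {π}) (he : 0 < e)
    [IsLocalHom (AdjoinRoot.of (X ^ e - C π : A[X]))] :
    Function.Surjective (ResidueField.map (AdjoinRoot.of (X ^ e - C π : A[X]))) := fun y => by
  obtain ⟨x, rfl⟩ := residue_surjective y
  obtain ⟨a, q, rfl⟩ := exists_of_add_root_mul x
  refine ⟨residue A a, ?_⟩
  rw [ResidueField.map_residue, map_add, left_eq_add, residue_eq_zero_iff, maximalIdeal_adjoinRoot hπ he]
  exact Ideal.mul_mem_right _ _ (Ideal.mem_span_singleton_self _)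

/-- Unramifiedness over `A[z]/(z^e - π)` at a place, read over `A`. -/
theorem data_iff (hπ : maximalIdeal A = Ideal.span {π}) (he : 0 < e) {W : ValuationSubring L}
    (h : Dominates A (g.comp (AdjoinRoot.of _)) W) :
    letI := (RingHom.codRestrict _ W h.1).toAlgebra
    haveI : IsLocalHom (algebraMap A W) := isLocalHom_codRestrict h
    letI := (RingHom.codRestrict g W (dominates_of_adjoinRoot g hπ he h).1).toAlgebra
    haveI : IsLocalHom (algebraMap (AdjoinRoot (X ^ e - C π : A[X])) W) :=
      isLocalHom_codRestrict (dominates_of_adjoinRoot g hπ he h)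
    (IsWeaklyUnramified (AdjoinRoot (X ^ e - C π : A[X])) W ↔
      maximalIdeal W = Ideal.span {(⟨g (AdjoinRoot.root _), (dominates_of_adjoinRoot g hπ he h).1 _⟩ : W)}) ∧
    (Algebra.IsSeparable (ResidueField (AdjoinRoot (X ^ e - C π : A[X]))) (ResidueField W) ↔
      Algebra.IsSeparable (ResidueField A) (ResidueField W)) := by
  letI := (RingHom.codRestrict _ W h.1).toAlgebra
  haveI : IsLocalHom (algebraMap A W) := isLocalHom_codRestrict h
  letI := (RingHom.codRestrict g W (dominates_of_adjoinRoot g hπ he h).1).toAlgebra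
  haveI : IsLocalHom (algebraMap (AdjoinRoot (X ^ e - C π : A[X])) W) :=
    isLocalHom_codRestrict (dominates_of_adjoinRoot g hπ he h)
  refine ⟨?_, ?_⟩
  · have hmap : (maximalIdeal (AdjoinRoot (X ^ e - C π : A[X]))).map
        (algebraMap (AdjoinRoot (X ^ e - C π : A[X])) W) =
        Ideal.span {algebraMap (AdjoinRoot (X ^ e - C π : A[X])) W (AdjoinRoot.root _)} :=
      (congrArg (Ideal.map _) (maximalIdeal_adjoinRoot hπ he)).trans
        ((Ideal.map_span _ _).trans (congrArg Ideal.span (Set.image_singleton ..)))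
    exact ⟨fun hw => hw.symm.trans hmap, fun hw => hmap.trans hw.symm⟩
  · haveI : IsLocalHom (AdjoinRoot.of (X ^ e - C π : A[X])) := ⟨fun a ha => by
      have h1 : IsUnit (algebraMap A W a) := ha.map (algebraMap (AdjoinRoot (X ^ e - C π : A[X])) W)
      exact isUnit_of_map_unit _ _ h1⟩
    letI : Algebra (ResidueField A) (ResidueField (AdjoinRoot (X ^ e - C π : A[X]))) :=
      (ResidueField.map (AdjoinRoot.of (X ^ e - C π : A[X]))).toAlgebra
    haveI : IsScalarTower (ResidueField A) (ResidueField (AdjoinRoot (X ^ e - C π : A[X]))) (ResidueField W) :=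
      IsScalarTower.of_algebraMap_eq fun x => by
        obtain ⟨a, rfl⟩ := residue_surjective x
        rfl
    refine ⟨fun hs => ?_, fun _ => Algebra.isSeparable_tower_top_of_isSeparable (ResidueField A) _ _⟩
    haveI : Algebra.IsSeparable (ResidueField A) (ResidueField (AdjoinRoot (X ^ e - C π : A[X]))) := ⟨fun y => by
      obtain ⟨x, rfl⟩ := surjective_residue_of hπ he y
      exact isSeparable_algebraMap _⟩
    exact Algebra.IsSeparable.trans (ResidueField A) (ResidueField (AdjoinRoot (X ^ e - C π : A[X]))) (ResidueField W)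

end Groth.Misc3Ram
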