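import Groth.Agent.EtaleAlgebra.ExtBaseChange
import Groth.Agent.EtaleAlgebra.TameCompositum
import Mathlib.RingTheory.Unramified.Field

/-!
# Base change of an unramified extension of the fraction field along an extension of DVRs
-/

set_option autoImplicit false
set_option linter.style.haveILetI false
set_option linter.overlappingInstances false
universe u

namespace Groth.Misc3Ram

open IsLocalRing TensorProduct EtRam Groth.EtaleAlgebra

/-- The data needed about `V ⊆ W` when `κ_B` is finite separable over `κ_A`. -/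
theorem weaklyUnramified_and_separable
    (A B V W : Type u) [CommRing A] [IsDomain A] [IsDiscreteValuationRing A]
    [CommRing B] [IsDomain B] [IsDiscreteValuationRing B]
    [CommRing V] [IsDomain V] [IsDiscreteValuationRing V]
    [CommRing W] [IsDomain W] [IsDiscreteValuationRing W]
    [Algebra A B] [Algebra A V] [Algebra A W] [Algebra B W] [Algebra V W]
    [IsScalarTower A B W] [IsScalarTower A V W]
    [IsLocalHom (algebraMap A B)] [IsLocalHom (algebraMap A V)] [IsLocalHom (algebraMap B W)]
    [IsLocalHom (algebraMap V W)] (hVW : Function.Injective (algebraMap V W))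
    (hw : IsWeaklyUnramified A B)
    (hgen : ∀ w : W, ∃ t s : V ⊗[A] B,
      Algebra.TensorProduct.lift (IsScalarTower.toAlgHom A V W) (IsScalarTower.toAlgHom A B W)
          (fun _ _ => Commute.all _ _) s ≠ 0 ∧
        w * Algebra.TensorProduct.lift (IsScalarTower.toAlgHom A V W) (IsScalarTower.toAlgHom A B W)
          (fun _ _ => Commute.all _ _) s =
        Algebra.TensorProduct.lift (IsScalarTower.toAlgHom A V W) (IsScalarTower.toAlgHom A B W)
          (fun _ _ => Commute.all _ _) t)
    [Module.Finite (ResidueField A) (ResidueField B)] [Algebra.IsSeparable (ResidueField A) (ResidueField B)] :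
    IsWeaklyUnramified V W ∧ Algebra.IsSeparable (ResidueField V) (ResidueField W) := by
  classical
  let Θ : V ⊗[A] B →ₐ[A] W := Algebra.TensorProduct.lift (IsScalarTower.toAlgHom A V W)
    (IsScalarTower.toAlgHom A B W) (fun _ _ => Commute.all _ _)
  let kA := ResidueField A
  let S := ResidueField V ⊗[kA] ResidueField B
  haveI : IsLocalHom (algebraMap A W) := by
    rw [IsScalarTower.algebraMap_eq A V W]; infer_instance
  haveI : IsScalarTower kA (ResidueField V) (ResidueField W) := by
    exact IsScalarTower.of_algebraMap_eq fun x => by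
      obtain ⟨a, rfl⟩ := residue_surjective x
      rw [ResidueField.algebraMap_residue, ResidueField.algebraMap_residue,
        ResidueField.algebraMap_residue, ← IsScalarTower.algebraMap_apply]
  haveI : IsScalarTower kA (ResidueField B) (ResidueField W) := by
    exact IsScalarTower.of_algebraMap_eq fun x => by
      obtain ⟨a, rfl⟩ := residue_surjective x
      rw [ResidueField.algebraMap_residue, ResidueField.algebraMap_residue,
        ResidueField.algebraMap_residue, ← IsScalarTower.algebraMap_apply]
  let χ : S →ₐ[ResidueField V] ResidueField W :=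
    Algebra.TensorProduct.lift (Algebra.ofId _ _)
      (IsScalarTower.toAlgHom kA (ResidueField B) (ResidueField W)) (fun _ _ => Commute.all _ _)
  haveI : IsScalarTower A kA (ResidueField V) := IsScalarTower.of_algebraMap_eq fun _ => rfl
  haveI : IsScalarTower A kA (ResidueField B) := IsScalarTower.of_algebraMap_eq fun _ => rfl
  let ψ : V ⊗[A] B →ₐ[A] S := Algebra.TensorProduct.lift
    (((Algebra.TensorProduct.includeLeft : ResidueField V →ₐ[kA] S).restrictScalars A).comp
      (IsScalarTower.toAlgHom A V (ResidueField V)))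
    (((Algebra.TensorProduct.includeRight : ResidueField B →ₐ[kA] S).restrictScalars A).comp
      (IsScalarTower.toAlgHom A B (ResidueField B))) (fun _ _ => Commute.all _ _)
  have hψt : ∀ (v : V) (b : B), ψ (v ⊗ₜ b) = residue V v ⊗ₜ[kA] residue B b := fun v b => by
    refine (Algebra.TensorProduct.lift_tmul _ _ _ v b).trans ?_
    show (residue V v ⊗ₜ[kA] (1 : ResidueField B)) * ((1 : ResidueField V) ⊗ₜ[kA] residue B b) = _
    rw [Algebra.TensorProduct.tmul_mul_tmul, mul_one, one_mul]
  have hψ : Function.Surjective ψ := fun z => by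
    induction z using TensorProduct.induction_on with
    | zero => exact ⟨0, map_zero _⟩
    | tmul x y =>
      obtain ⟨v, rfl⟩ := residue_surjective x
      obtain ⟨b, rfl⟩ := residue_surjective y
      exact ⟨v ⊗ₜ b, hψt v b⟩
    | add x y hx hy =>
      obtain ⟨a, rfl⟩ := hx
      obtain ⟨b, rfl⟩ := hy
      exact ⟨a + b, map_add _ _ _⟩
  have hχ : ∀ t, χ (ψ t) = residue W (Θ t) := fun t => by
    induction t using TensorProduct.induction_on with
    | zero => simp
    | tmul v b =>
      rw [hψt, Algebra.TensorProduct.lift_tmul, Algebra.TensorProduct.lift_tmul, map_mul]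
      rfl
    | add x y hx hy => simp only [map_add, hx, hy]
  obtain ⟨π, hπ⟩ := IsDiscreteValuationRing.exists_irreducible V
  let p : W := algebraMap V W π
  have hp0 : p ≠ 0 := fun h => hπ.ne_zero (hVW (h.trans (map_zero _).symm))
  have hpm : p ∈ maximalIdeal W := (mem_maximalIdeal _).2 fun h =>
    hπ.not_isUnit (IsUnit.of_map (algebraMap V W) _ h)
  have hker : ∀ t, ψ t = 0 → ∃ t', t = (π ⊗ₜ[A] (1 : B)) * t' := by
    intro t ht
    let J : Ideal (V ⊗[A] B) := Ideal.span {π ⊗ₜ[A] (1 : B)}
    let Q := (V ⊗[A] B) ⧸ J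
    let qV : V →+* Q := (Ideal.Quotient.mk J).comp
      (Algebra.TensorProduct.includeLeft : V →ₐ[A] V ⊗[A] B).toRingHom
    let qB : B →+* Q := (Ideal.Quotient.mk J).comp
      (Algebra.TensorProduct.includeRight : B →ₐ[A] V ⊗[A] B).toRingHom
    have hqV : ∀ v ∈ maximalIdeal V, qV v = 0 := fun v hv => by
      obtain ⟨c, rfl⟩ := Ideal.mem_span_singleton.1 (hπ.maximalIdeal_eq ▸ hv)
      have : qV π = 0 := Ideal.Quotient.eq_zero_iff_mem.2 (Ideal.mem_span_singleton_self _)
      rw [map_mul, this, zero_mul]
    have hAV : ∀ a : A, qB (algebraMap A B a) = qV (algebraMap A V a) := fun a => by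
      show Ideal.Quotient.mk J ((Algebra.TensorProduct.includeRight : B →ₐ[A] V ⊗[A] B) (algebraMap A B a)) =
        Ideal.Quotient.mk J ((Algebra.TensorProduct.includeLeft : V →ₐ[A] V ⊗[A] B) (algebraMap A V a))
      rw [AlgHom.commutes, AlgHom.commutes]
    have hqB : ∀ b ∈ maximalIdeal B, qB b = 0 := fun b hb => by
      rw [← hw] at hb
      refine (Ideal.map_le_iff_le_comap.2 (fun a ha => ?_) : _ ≤ RingHom.ker qB) hb
      show qB (algebraMap A B a) = 0
      rw [hAV]
      exact hqV _ ((map_mem_nonunits_iff (algebraMap A V) a).2 ha)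
    let rV : ResidueField V →+* Q := Ideal.Quotient.lift (maximalIdeal V) qV hqV
    let rB : ResidueField B →+* Q := Ideal.Quotient.lift (maximalIdeal B) qB hqB
    letI : Algebra kA Q := (rV.comp (algebraMap kA (ResidueField V))).toAlgebra
    have hrB : ∀ x : kA, rB (algebraMap kA (ResidueField B) x) = algebraMap kA Q x := fun x => by
      obtain ⟨a, rfl⟩ := residue_surjective x
      exact hAV a
    let fV : ResidueField V →ₐ[kA] Q := AlgHom.mk rV (fun _ => rfl)
    let fB : ResidueField B →ₐ[kA] Q := AlgHom.mk rB hrB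
    let σ : S →ₐ[kA] Q := Algebra.TensorProduct.lift fV fB (fun _ _ => Commute.all _ _)
    have hσ : ∀ z, σ (ψ z) = Ideal.Quotient.mk J z := fun z => by
      induction z using TensorProduct.induction_on with
      | zero => simp
      | tmul v b =>
        rw [hψt, Algebra.TensorProduct.lift_tmul]
        show qV v * qB b = _
        show Ideal.Quotient.mk J (v ⊗ₜ 1) * Ideal.Quotient.mk J (1 ⊗ₜ b) = _
        rw [← map_mul, Algebra.TensorProduct.tmul_mul_tmul, one_mul, mul_one]
      | add x y hx hy => simp only [map_add, hx, hy]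
    have := hσ t
    rw [ht, map_zero] at this
    obtain ⟨c, hc⟩ := Ideal.mem_span_singleton.1 (Ideal.Quotient.eq_zero_iff_mem.1 this.symm)
    exact ⟨c, hc⟩
  let P : Ideal S := RingHom.ker χ
  haveI : P.IsPrime := RingHom.ker_isPrime χ
  haveI : Algebra.FormallyUnramified kA (ResidueField B) := Algebra.FormallyUnramified.of_isSeparable _ _
  haveI : IsReduced S := Algebra.FormallyUnramified.isReduced_of_field (ResidueField V) S
  haveI : Algebra.IsIntegral (ResidueField V) S := Algebra.IsIntegral.of_finite _ _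
  have hdim : ∀ Q : Ideal S, Q.IsPrime → Q.IsMaximal := fun Q hQ =>
    Ideal.isMaximal_of_isIntegral_of_isMaximal_comap (R := ResidueField V) Q
      ((Ideal.eq_bot_or_top (Q.comap (algebraMap (ResidueField V) S))).resolve_right
        (Ideal.IsPrime.ne_top inferInstance) ▸ Ideal.bot_isMaximal)
  have hmem : ∀ t, ψ t ∈ P ↔ Θ t ∈ maximalIdeal W := fun t => by
    rw [RingHom.mem_ker, hχ, residue_eq_zero_iff]
  have key : ∀ t, Θ t ∈ maximalIdeal W → ∃ s t', IsUnit (Θ s) ∧ Θ s * Θ t = p * Θ t' := by
    intro t ht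
    obtain ⟨σ, hσ, h0⟩ := exists_notMem_mul_eq_zero hdim P ((hmem t).2 ht)
    obtain ⟨s, rfl⟩ := hψ σ
    obtain ⟨t', ht'⟩ := hker (s * t) (by rw [map_mul, h0])
    refine ⟨s, t', not_not.1 fun h => hσ ((hmem s).2 ((mem_maximalIdeal _).2 h)), ?_⟩
    rw [← map_mul, ht', map_mul]
    congr 1
    show Θ (π ⊗ₜ[A] (1 : B)) = p
    rw [Algebra.TensorProduct.lift_tmul]
    simp [p]
  have main : ∀ t, Θ t ≠ 0 → ∃ (n : ℕ) (s u : V ⊗[A] B),
      IsUnit (Θ s) ∧ IsUnit (Θ u) ∧ Θ s * Θ t = p ^ n * Θ u := by
    intro t ht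
    obtain ⟨m, hm⟩ : ∃ m : ℕ, Θ t ∉ maximalIdeal W ^ m := by
      by_contra h
      push Not at h
      have h' : Θ t ∈ ⨅ m : ℕ, maximalIdeal W ^ m := (Submodule.mem_iInf _).2 h
      rw [Ideal.iInf_pow_eq_bot_of_isLocalRing _ (maximalIdeal.isMaximal W).ne_top, Ideal.mem_bot] at h'
      exact ht h'
    clear ht
    induction m generalizing t with
    | zero => exact absurd (by simp) hm
    | succ m ih =>
      by_cases hu : IsUnit (Θ t)
      · exact ⟨0, 1, t, by simp, hu, by simp⟩
      obtain ⟨s, t', hs, hst⟩ := key t ((mem_maximalIdeal _).2 hu)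
      obtain ⟨n, s', u, hs', hu', h'⟩ := ih t' fun h => hm <| by
        rw [← Ideal.unit_mul_mem_iff_mem _ hs, hst, pow_succ']
        exact Ideal.mul_mem_mul hpm h
      refine ⟨n + 1, s' * s, u, by rw [map_mul]; exact hs'.mul hs, hu', ?_⟩
      rw [map_mul, mul_assoc, hst, mul_left_comm, h', pow_succ']
      ring
  have hform : ∀ w : W, w ≠ 0 → ∃ (n : ℕ) (s u : V ⊗[A] B),
      IsUnit (Θ s) ∧ IsUnit (Θ u) ∧ Θ s * w = p ^ n * Θ u := by
    intro w hw0
    obtain ⟨t, s, hs, hts⟩ := hgen w
    obtain ⟨a, s₁, u₁, hs₁, hu₁, e₁⟩ := main s hs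
    obtain ⟨b, s₂, u₂, hs₂, hu₂, e₂⟩ := main t
      (fun h => mul_ne_zero hw0 hs (hts.trans h))
    have e : p ^ a * (Θ (u₁ * s₂) * w) = p ^ b * Θ (s₁ * u₂) := by
      calc p ^ a * (Θ (u₁ * s₂) * w) = Θ s₂ * w * (p ^ a * Θ u₁) := by rw [map_mul]; ring
        _ = Θ s₁ * (Θ s₂ * (w * Θ s)) := by rw [← e₁]; ring
        _ = Θ s₁ * (Θ s₂ * Θ t) := by rw [hts]
        _ = p ^ b * Θ (s₁ * u₂) := by rw [e₂, map_mul]; ring
    by_cases hab : a ≤ b
    · refine ⟨b - a, u₁ * s₂, s₁ * u₂, by rw [map_mul]; exact hu₁.mul hs₂,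
        by rw [map_mul]; exact hs₁.mul hu₂, mul_left_cancel₀ (pow_ne_zero a hp0) ?_⟩
      rw [e, ← mul_assoc, ← pow_add, Nat.add_sub_cancel' hab]
    · exfalso
      obtain ⟨c, rfl⟩ : ∃ c, a = b + (c + 1) := ⟨a - b - 1, by omega⟩
      rw [pow_add, mul_assoc] at e
      have e' := mul_left_cancel₀ (pow_ne_zero b hp0) e
      have : Θ (s₁ * u₂) ∈ maximalIdeal W := e' ▸ Ideal.mul_mem_right _ _
        (Ideal.pow_mem_of_mem _ hpm _ (Nat.succ_pos c))
      exact (mem_maximalIdeal _).1 this (by rw [map_mul]; exact hs₁.mul hu₂)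
  refine ⟨?_, ?_⟩
  · show (maximalIdeal V).map (algebraMap V W) = maximalIdeal W
    rw [hπ.maximalIdeal_eq, Ideal.map_span, Set.image_singleton]
    refine le_antisymm ((Ideal.span_singleton_le_iff_mem _).2 hpm) fun w hw' => ?_
    rcases eq_or_ne w 0 with rfl | hw0
    · exact zero_mem _
    obtain ⟨n, s, u, hs, hu, e⟩ := hform w hw0
    rw [← Ideal.unit_mul_mem_iff_mem _ hs, e]
    rcases n with _ | n
    · rw [pow_zero, one_mul] at e
      exact absurd (e ▸ hu) fun h => (mem_maximalIdeal _).1 hw' (isUnit_of_mul_isUnit_right h)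
    · exact Ideal.mem_span_singleton.2 (dvd_mul_of_dvd_left (dvd_pow_self _ n.succ_ne_zero) _)
  have hPm : P.IsMaximal := hdim P inferInstance
  let χ' : (S ⧸ P) →ₐ[ResidueField V] ResidueField W :=
    Ideal.Quotient.liftₐ P χ fun a ha => ha
  have hχ'i : Function.Injective χ' := by
    letI := Ideal.Quotient.field P
    exact χ'.toRingHom.injective
  have hχ's : Function.Surjective χ' := by
    letI := Ideal.Quotient.field P
    intro x
    obtain ⟨w, rfl⟩ := residue_surjective x
    by_cases hw' : IsUnit w
    · obtain ⟨n, s, u, hs, hu, e⟩ := hform w hw'.ne_zero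
      have hn : n = 0 := by
        by_contra hn
        exact (mem_maximalIdeal _).1 (Ideal.mul_mem_right _ _ (Ideal.pow_mem_of_mem _ hpm n (Nat.pos_of_ne_zero hn)))
          (e ▸ hs.mul hw')
      rw [hn, pow_zero, one_mul] at e
      refine ⟨Ideal.Quotient.mk P (ψ u) / Ideal.Quotient.mk P (ψ s), ?_⟩
      rw [map_div₀]
      show χ (ψ u) / χ (ψ s) = _
      rw [hχ, hχ, ← e, map_mul, mul_div_cancel_left₀]
      exact fun h => (mem_maximalIdeal _).1 ((residue_eq_zero_iff _).1 h) hs
    · exact ⟨0, (map_zero _).trans ((residue_eq_zero_iff _).2 ((mem_maximalIdeal _).2 hw')).symm⟩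
  letI := Ideal.Quotient.field P
  haveI : Algebra.FormallyUnramified (ResidueField V) (S ⧸ P) :=
    Algebra.FormallyUnramified.of_surjective (Ideal.Quotient.mkₐ (ResidueField V) P) Ideal.Quotient.mk_surjective
  haveI : Algebra.IsSeparable (ResidueField V) (S ⧸ P) := Algebra.FormallyUnramified.isSeparable _ _
  exact AlgEquiv.Algebra.isSeparable (AlgEquiv.ofBijective χ' ⟨hχ'i, hχ's⟩)

/-- An unramified extension of `K` stays unramified in a compositum with `L`. -/
theorem unramified_local (A B K L : Type u) [CommRing A] [IsDomain A] [IsDiscreteValuationRing A]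
    [CommRing B] [IsDomain B] [IsDiscreteValuationRing B] [Algebra A B] [IsLocalHom (algebraMap A B)]
    [Field K] [Field L] [Algebra A K] [IsFractionRing A K] [Algebra B L] [IsFractionRing B L]
    [Algebra K L] [Algebra A L] [IsScalarTower A K L] [IsScalarTower A B L]
    (hinj : Function.Injective (algebraMap A B))
    (K₁ : Type u) [Field K₁] [Algebra K K₁] [FiniteDimensional K K₁]
    (M : Type u) [Field M] [Algebra K M] [Algebra L M] [Algebra K₁ M] [IsScalarTower K L M]
    [IsScalarTower K K₁ M] (hadj : Algebra.adjoin L (Set.range (algebraMap K₁ M)) = ⊤)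
    (W : ValuationSubring M) (hW : Dominates B ((algebraMap L M).comp (algebraMap B L)) W)
    (hunr : ∀ (hV : Dominates A ((algebraMap K K₁).comp (algebraMap A K)) (W.comap (algebraMap K₁ M))),
      letI := (RingHom.codRestrict _ (W.comap (algebraMap K₁ M)) hV.1).toAlgebra
      haveI : IsLocalHom (algebraMap A (W.comap (algebraMap K₁ M))) := isLocalHom_codRestrict hV
      IsWeaklyUnramified A (W.comap (algebraMap K₁ M)) ∧
        Algebra.IsSeparable (ResidueField A) (ResidueField (W.comap (algebraMap K₁ M)))) :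
    letI : Algebra B W := (RingHom.codRestrict _ W hW.1).toAlgebra
    haveI : IsLocalHom (algebraMap B W) := isLocalHom_codRestrict hW
    IsWeaklyUnramified B W ∧ Algebra.IsSeparable (ResidueField B) (ResidueField W) := by
  classical
  let f := algebraMap K₁ M
  let V := W.comap f
  haveI : FiniteDimensional L M := by
    obtain ⟨G, hG⟩ := (Module.Finite.fg_top : (⊤ : Submodule K K₁).FG)
    have hle : Algebra.adjoin L (Set.range f) ≤ Algebra.adjoin L ((G.image f : Finset M) : Set M) := by
      refine Algebra.adjoin_le ?_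
      rintro _ ⟨x, rfl⟩
      have hx : x ∈ Submodule.span K (G : Set K₁) := hG ▸ Submodule.mem_top
      induction hx using Submodule.span_induction with
      | mem y hy => exact Algebra.subset_adjoin (Finset.mem_coe.2 (Finset.mem_image_of_mem f hy))
      | zero => rw [map_zero]; exact zero_mem _
      | add y z _ _ hy hz => rw [map_add]; exact add_mem hy hz
      | smul c y _ hy =>
        rw [Algebra.smul_def, map_mul, show f (algebraMap K K₁ c) = algebraMap L M (algebraMap K L c) by
          rw [← IsScalarTower.algebraMap_apply, ← IsScalarTower.algebraMap_apply]]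
        exact mul_mem (Subalgebra.algebraMap_mem _ _) hy
    have h1 := fg_adjoin_of_finite (R := L) (G.image f).finite_toSet fun x hx => by
      obtain ⟨y, -, rfl⟩ := Finset.mem_image.1 (Finset.mem_coe.1 hx)
      exact ((Algebra.IsIntegral.isIntegral (R := K) y).map (IsScalarTower.toAlgHom K K₁ M)).tower_top
    rw [show Algebra.adjoin L ((G.image f : Finset M) : Set M) = ⊤ from top_le_iff.1 (hadj ▸ hle),
      Algebra.top_toSubmodule] at h1
    exact ⟨h1⟩
  haveI : IsDiscreteValuationRing W := isDiscreteValuationRing_of_dominates B L M hW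
  have hinjAB : ∀ a, a ∈ maximalIdeal A → algebraMap A B a ∈ maximalIdeal B := fun a ha =>
    (map_mem_nonunits_iff (algebraMap A B) a).2 ha
  have hcomp : ((algebraMap L M).comp (algebraMap B L)).comp (algebraMap A B) =
      f.comp ((algebraMap K K₁).comp (algebraMap A K)) := RingHom.ext fun a => by
    show algebraMap L M (algebraMap B L (algebraMap A B a)) = f (algebraMap K K₁ (algebraMap A K a))
    rw [← IsScalarTower.algebraMap_apply A B L, IsScalarTower.algebraMap_apply A K L,
      ← IsScalarTower.algebraMap_apply K L M, ← IsScalarTower.algebraMap_apply K K₁ M]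
  have hV : Dominates A ((algebraMap K K₁).comp (algebraMap A K)) V := by
    refine dominates_comp_iff.1 ?_
    rw [← hcomp]
    exact ⟨fun a => hW.1 _, fun a ha => hW.2 _ (hinjAB a ha)⟩
  haveI : IsDiscreteValuationRing V := isDiscreteValuationRing_of_dominates A K K₁ hV
  letI aAV : Algebra A V := (RingHom.codRestrict _ V hV.1).toAlgebra
  letI aBW : Algebra B W := (RingHom.codRestrict _ W hW.1).toAlgebra
  letI aVW : Algebra V W := (inclOfComap W f).toAlgebra
  letI aAW : Algebra A W := ((algebraMap V W).comp (algebraMap A V)).toAlgebra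
  haveI : IsScalarTower A V W := IsScalarTower.of_algebraMap_eq fun _ => rfl
  haveI : IsScalarTower A B W := IsScalarTower.of_algebraMap_eq fun a =>
    Subtype.ext (DFunLike.congr_fun hcomp a).symm
  haveI : IsLocalHom (algebraMap A V) := isLocalHom_codRestrict hV
  haveI : IsLocalHom (algebraMap B W) := isLocalHom_codRestrict hW
  haveI : IsLocalHom (algebraMap V W) := isLocalHom_inclOfComap W f
  letI : Algebra A K₁ := ((algebraMap K K₁).comp (algebraMap A K)).toAlgebra
  haveI : IsScalarTower A K K₁ := IsScalarTower.of_algebraMap_eq fun _ => rfl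
  haveI : IsScalarTower A V K₁ := IsScalarTower.of_algebraMap_eq fun _ => rfl
  haveI : Module.Finite (ResidueField A) (ResidueField V) :=
    (finite_residueField_and_ramificationIdx_mul_finrank_le A V
      (fun a b hab => IsFractionRing.injective A K ((algebraMap K K₁).injective
        (congrArg Subtype.val hab))) K K₁).1
  let Θ : V ⊗[A] B →ₐ[A] W := Algebra.TensorProduct.lift (IsScalarTower.toAlgHom A V W)
    (IsScalarTower.toAlgHom A B W) (fun _ _ => Commute.all _ _)
  let T : Set M := {x | ∃ t s, Θ s ≠ 0 ∧ x * (Θ s : M) = (Θ t : M)}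
  have hne : ∀ s, Θ s ≠ 0 → (Θ s : M) ≠ 0 := fun s hs h => hs (Subtype.ext h)
  have hone : Θ 1 ≠ 0 := by rw [map_one]; exact one_ne_zero
  have hall : ∀ x : M, x ∈ T := by
    intro x
    have hx : x ∈ Algebra.adjoin L (Set.range f) := hadj ▸ Algebra.mem_top
    induction hx using Algebra.adjoin_induction with
    | mem y hy =>
      obtain ⟨z, rfl⟩ := hy
      rcases V.mem_or_inv_mem z with h | h
      · exact ⟨(⟨z, h⟩ : V) ⊗ₜ 1, 1, hone, by simp [Θ, map_one]; rfl⟩
      · rcases eq_or_ne z 0 with rfl | hz
        · exact ⟨0, 1, hone, by simp⟩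
        refine ⟨1, (⟨z⁻¹, h⟩ : V) ⊗ₜ 1, fun h0 => ?_, ?_⟩
        · have h1 := congrArg Subtype.val h0
          simp only [Θ, Algebra.TensorProduct.lift_tmul, map_one, mul_one] at h1
          exact inv_ne_zero hz (f.injective (h1.trans (map_zero f).symm))
        · simp only [Θ, Algebra.TensorProduct.lift_tmul, map_one, mul_one]
          show f z * f z⁻¹ = _
          rw [← map_mul, mul_inv_cancel₀ hz, map_one]
          rfl
    | algebraMap l =>
      obtain ⟨⟨b, c⟩, hbc⟩ := IsLocalization.surj (nonZeroDivisors B) l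
      have hB : ∀ b : B, (Θ (1 ⊗ₜ b) : M) = algebraMap L M (algebraMap B L b) := fun b => by
        simp only [Θ, Algebra.TensorProduct.lift_tmul, map_one, one_mul]
        rfl
      refine ⟨1 ⊗ₜ b, 1 ⊗ₜ (c : B), fun h => nonZeroDivisors.ne_zero c.2 ?_, ?_⟩
      · have h1 := congrArg Subtype.val h
        rw [hB] at h1
        exact IsFractionRing.injective B L ((algebraMap L M).injective
          (h1.trans (map_zero (algebraMap L M)).symm) |>.trans (map_zero _).symm)
      · rw [hB, hB, ← map_mul]
        exact congrArg _ hbc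
    | add y z _ _ hy hz =>
      obtain ⟨t, s, hs, e⟩ := hy
      obtain ⟨t', s', hs', e'⟩ := hz
      refine ⟨t * s' + t' * s, s * s', by rw [map_mul]; exact mul_ne_zero hs hs', ?_⟩
      simp only [map_mul, map_add, MulMemClass.coe_mul, AddMemClass.coe_add, ← e, ← e']
      ring
    | mul y z _ _ hy hz =>
      obtain ⟨t, s, hs, e⟩ := hy
      obtain ⟨t', s', hs', e'⟩ := hz
      refine ⟨t * t', s * s', by rw [map_mul]; exact mul_ne_zero hs hs', ?_⟩
      simp only [map_mul, MulMemClass.coe_mul, ← e, ← e']
      ring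
  obtain ⟨h1, h2⟩ := hunr hV
  haveI := h2
  exact weaklyUnramified_and_separable A V B W
    (fun a b hab => IsFractionRing.injective B L ((algebraMap L M).injective (congrArg Subtype.val hab))) h1
    (fun w => by
      obtain ⟨t, s, hs, e⟩ := hall w
      let c := (Algebra.TensorProduct.comm A V B)
      have hc : ∀ z, Algebra.TensorProduct.lift (IsScalarTower.toAlgHom A B W) (IsScalarTower.toAlgHom A V W)
          (fun _ _ => Commute.all _ _) (c z) = Θ z := fun z => by
        induction z using TensorProduct.induction_on with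
        | zero => simp
        | tmul v b => simp [Θ, c, mul_comm]
        | add x y hx hy => simp only [map_add, hx, hy]
      exact ⟨c t, c s, by rw [hc]; exact hs, by rw [hc, hc]; exact Subtype.ext e⟩)

end Groth.Misc3Ram
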