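import Groth.Agent.Misc3Ram.KummerTame
import Groth.Agent.Misc3Ram.UnramBaseChange

/-!
# Abhyankar: tame extensions and `A[z]/(z^e - π)`
-/

set_option autoImplicit false
set_option linter.style.haveILetI false
set_option linter.overlappingInstances false
universe u

namespace Groth.Misc3Ram

open IsLocalRing EtRam Groth.EtaleAlgebra Polynomial

variable {A K L : Type u} [CommRing A] [IsDomain A] [IsDiscreteValuationRing A] [Field K]
  [Algebra A K] [IsFractionRing A K] [Field L] [Algebra K L] [FiniteDimensional K L]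
  [Algebra.IsSeparable K L]

/-- The forward direction, for every `e` divisible by the ramification indices. -/
theorem exists_unramified_kummer (ht : IsTamelyRamified A ((algebraMap K L).comp (algebraMap A K)))
    (π : A) (hπ : maximalIdeal A = Ideal.span {π}) (e : ℕ) (he : 0 < e) (heA : (e : ResidueField A) ≠ 0)
    (hdiv : ∀ (V : ValuationSubring L) (hV : Dominates A ((algebraMap K L).comp (algebraMap A K)) V),
      letI := (RingHom.codRestrict _ V hV.1).toAlgebra
      Ideal.ramificationIdx' (maximalIdeal A) (maximalIdeal V) ∣ e) :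
    ∃ (L' : Type u) (_ : Field L') (_ : Algebra K L')
      (_ : Algebra (AdjoinRoot (X ^ e - C π : A[X])) L') (_ : L →ₐ[K] L'),
      FiniteDimensional K L' ∧ Algebra.IsSeparable K L' ∧
      (algebraMap (AdjoinRoot (X ^ e - C π : A[X])) L').comp (AdjoinRoot.of (X ^ e - C π)) =
        (algebraMap K L').comp (algebraMap A K) ∧
      ∀ [IsLocalRing (AdjoinRoot (X ^ e - C π : A[X]))],
        EtRam.IsUnramifiedExt (AdjoinRoot (X ^ e - C π : A[X]))
          (algebraMap (AdjoinRoot (X ^ e - C π : A[X])) L') := by
  classical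
  have hπ' : Irreducible π := (IsDiscreteValuationRing.irreducible_iff_uniformizer π).2 hπ
  let Ω := AlgebraicClosure L
  let c := algebraMap A K π
  have hc : c ≠ 0 := (map_ne_zero_iff _ (IsFractionRing.injective A K)).2 hπ'.ne_zero
  have heK : (e : K) ≠ 0 := by
    have heU : IsUnit (e : A) := by rw [← residue_ne_zero_iff_isUnit, map_natCast]; exact heA
    rw [← map_natCast (algebraMap A K)]
    exact (heU.map _).ne_zero
  obtain ⟨θ, hθ⟩ := IsAlgClosed.exists_pow_nat_eq (k := Ω) (algebraMap K Ω c) he
  have hθ' : θ ^ e = algebraMap L Ω (algebraMap K L c) := by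
    rw [hθ, IsScalarTower.algebraMap_apply K L Ω]
  have hsepθ : IsSeparable L θ := by
    have hc' : algebraMap K L c ≠ 0 := by simpa using hc
    have heL : (e : L) ≠ 0 := by rw [← map_natCast (algebraMap K L)]; exact (_root_.map_ne_zero _).2 heK
    exact (separable_X_pow_sub_C _ heL hc').of_dvd (minpoly.dvd L θ (by simp [hθ']))
  let Mi := IntermediateField.adjoin L ({θ} : Set Ω)
  let M := ↥Mi
  haveI : FiniteDimensional L M := IntermediateField.adjoin.finiteDimensional hsepθ.isIntegral
  haveI : Algebra.IsSeparable L M := (IntermediateField.isSeparable_adjoin_simple_iff_isSeparable L Ω).2 hsepθ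
  haveI : FiniteDimensional K M := Module.Finite.trans L M
  haveI : Algebra.IsSeparable K M := Algebra.IsSeparable.trans K L M
  let t : M := ⟨θ, IntermediateField.mem_adjoin_simple_self L θ⟩
  have ht' : t ^ e = algebraMap K M c := Subtype.ext hθ
  let g : AdjoinRoot (X ^ e - C π : A[X]) →+* M :=
    AdjoinRoot.lift ((algebraMap K M).comp (algebraMap A K)) t (by simp [ht', c])
  letI : Algebra (AdjoinRoot (X ^ e - C π : A[X])) M := g.toAlgebra
  have hg : g.comp (AdjoinRoot.of _) = (algebraMap K M).comp (algebraMap A K) :=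
    AdjoinRoot.lift_comp_of ..
  refine ⟨M, inferInstance, inferInstance, inferInstance, IsScalarTower.toAlgHom K L M, inferInstance,
    inferInstance, hg, ?_⟩
  intro _ W hWg _
  have hWd : Dominates A ((algebraMap K M).comp (algebraMap A K)) W := by
    rw [← hg]
    refine ⟨fun a => hWg.1 (AdjoinRoot.of _ a), fun a ha => hWg.2 (AdjoinRoot.of _ a) ?_⟩
    rw [maximalIdeal_adjoinRoot hπ he]
    rw [hπ, Ideal.mem_span_singleton] at ha
    obtain ⟨b, rfl⟩ := ha
    rw [map_mul, ← root_pow]
    exact Ideal.mul_mem_right _ _ (Ideal.pow_mem_of_mem _ (Ideal.mem_span_singleton_self _) e he)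
  let N := IntermediateField.adjoin K ({t} : Set M)
  let t' : N := ⟨t, IntermediateField.mem_adjoin_simple_self K t⟩
  have hadj : Algebra.adjoin L (Set.range (algebraMap N M)) = ⊤ := by
    refine eq_top_iff.2 fun x _ => ?_
    have hx : (x : Ω) ∈ Algebra.adjoin L ({θ} : Set Ω) := by
      rw [← IntermediateField.adjoin_simple_toSubalgebra_of_isAlgebraic hsepθ.isIntegral.isAlgebraic]
      exact x.2
    have hle : Algebra.adjoin L ({θ} : Set Ω) ≤ (Algebra.adjoin L (Set.range (algebraMap N M))).map Mi.val :=
      Algebra.adjoin_le (Set.singleton_subset_iff.2 ⟨t, Algebra.subset_adjoin ⟨t', rfl⟩, rfl⟩)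
    obtain ⟨y, hy, hxy⟩ := hle hx
    exact (Subtype.ext hxy : y = x) ▸ hy
  let VN := W.comap (algebraMap N M)
  have hVN : Dominates A ((algebraMap K N).comp (algebraMap A K)) VN := dominates_restrict hWd
  have hVL : Dominates A ((algebraMap K L).comp (algebraMap A K)) (W.comap (algebraMap L M)) :=
    dominates_restrict hWd
  haveI : FiniteDimensional K N := FiniteDimensional.left K N M
  letI aAN : Algebra A VN := (RingHom.codRestrict _ VN hVN.1).toAlgebra
  haveI : IsLocalHom (algebraMap A VN) := isLocalHom_codRestrict hVN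
  obtain ⟨he1, hfin, hle⟩ := TameComp.ramificationIdx_mul_le hVN
  have hedvd : e ∣ Ideal.ramificationIdx' (maximalIdeal A) (maximalIdeal VN) :=
    TameComp.dvd_ramificationIdx hπ' he.ne' (x := t') (Subtype.ext ht') hVN
  obtain ⟨hw, hs⟩ := TameComp.step (A := A) (L := L) (K₁ := N) (M := M) hadj ht hWd
    ((hdiv _ hVL).trans hedvd)
  -- `N/K` is totally ramified of index `e`
  have hNe : Module.finrank K N ≤ e := by
    rw [IntermediateField.adjoin.finrank (Algebra.IsIntegral.isIntegral t)]
    refine (natDegree_le_of_dvd (minpoly.dvd K t (p := X ^ e - C c) (by simp [ht'])) ?_).trans_eq natDegree_X_pow_sub_C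
    exact (monic_X_pow_sub_C c he.ne').ne_zero
  obtain ⟨k, hk⟩ := hedvd
  have hk0 : 0 < k := Nat.pos_of_ne_zero fun h => by rw [hk, h, mul_zero] at he1; omega
  have hf0 : 0 < Module.finrank (ResidueField A) (ResidueField VN) := Module.finrank_pos
  have hkf : k * Module.finrank (ResidueField A) (ResidueField VN) ≤ 1 := by
    refine Nat.le_of_mul_le_mul_left ?_ he
    rw [mul_one, ← mul_assoc, ← hk]
    exact hle.trans hNe
  have hk1 : k = 1 ∧ Module.finrank (ResidueField A) (ResidueField VN) = 1 :=
    mul_eq_one.1 (le_antisymm hkf (Nat.mul_pos hk0 hf0))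
  -- `t` generates the maximal ideal of `VN`
  haveI : IsDiscreteValuationRing VN := isDiscreteValuationRing_of_dominates A K N hVN
  have htV : t' ∈ VN := by
    show (algebraMap N M t' : M) ∈ W
    have h1 : algebraMap (AdjoinRoot (X ^ e - C π : A[X])) M (AdjoinRoot.root _) ∈ W :=
      hWg.1 (AdjoinRoot.root _)
    rwa [RingHom.algebraMap_toAlgebra, AdjoinRoot.lift_root] at h1
  let s : VN := ⟨t', htV⟩
  obtain ⟨ϖ, hϖ⟩ := IsDiscreteValuationRing.exists_irreducible VN
  have hinjVN : Function.Injective (algebraMap A VN) := fun a b hab =>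
    IsFractionRing.injective A K ((algebraMap K N).injective (congrArg Subtype.val hab))
  obtain ⟨e', -, hem, hee⟩ := exists_map_maximalIdeal_eq_pow A VN hinjVN
  have hse : maximalIdeal VN = Ideal.span {s} := by
    have h1 : s ^ e = algebraMap A VN π := Subtype.ext ((SubmonoidClass.coe_pow s e).trans (Subtype.ext ht'))
    have hs0 : s ≠ 0 := fun h => by
      rw [h, zero_pow he.ne'] at h1
      exact hπ'.ne_zero (hinjVN (h1.symm.trans (map_zero _).symm))
    obtain ⟨j, hj⟩ := IsDiscreteValuationRing.ideal_eq_span_pow_irreducible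
      (s := Ideal.span {s}) (by rwa [Ne, Ideal.span_singleton_eq_bot]) hϖ
    have h2 : maximalIdeal VN ^ e' = maximalIdeal VN ^ (j * e) := by
      rw [← hem, hπ, Ideal.map_span, Set.image_singleton, ← h1, hϖ.maximalIdeal_eq, pow_mul,
        Ideal.span_singleton_pow (ϖ) j, ← hj, Ideal.span_singleton_pow]
    have h3 := pow_maximalIdeal_injective VN h2
    rw [hee, h3] at hk
    rw [hk1.1, mul_one] at hk
    have : j = 1 := Nat.eq_of_mul_eq_mul_right he (hk.trans (one_mul e).symm)
    rw [hj, this, pow_one, hϖ.maximalIdeal_eq]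
  -- conclude
  have hd : Dominates A (g.comp (AdjoinRoot.of _)) W := by rw [hg]; exact hWd
  obtain ⟨iw, is⟩ := data_iff g hπ he hd
  refine ⟨iw.2 ?_, is.2 ?_⟩
  · letI : Algebra VN W := (inclOfComap W (algebraMap N M)).toAlgebra
    rw [← hw, hse, Ideal.map_span, Set.image_singleton]
    congr 2
    exact Subtype.ext (AdjoinRoot.lift_root _).symm
  · letI := (RingHom.codRestrict _ W hd.1).toAlgebra
    haveI : IsLocalHom (algebraMap A W) := isLocalHom_codRestrict hd
    letI : Algebra VN W := (inclOfComap W (algebraMap N M)).toAlgebra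
    haveI : IsLocalHom (algebraMap VN W) := isLocalHom_inclOfComap W (algebraMap N M)
    haveI : IsScalarTower A VN W := IsScalarTower.of_algebraMap_eq fun a => Subtype.ext (by
      show g (AdjoinRoot.of _ a) = algebraMap N M (algebraMap K N (algebraMap A K a))
      rw [← IsScalarTower.algebraMap_apply K N M]
      exact AdjoinRoot.lift_of _)
    haveI : IsScalarTower (ResidueField A) (ResidueField VN) (ResidueField W) :=
      IsScalarTower.of_algebraMap_eq fun x => by
        obtain ⟨a, rfl⟩ := residue_surjective x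
        rw [ResidueField.algebraMap_residue, ResidueField.algebraMap_residue,
          ResidueField.algebraMap_residue, ← IsScalarTower.algebraMap_apply]
    haveI : Algebra.IsSeparable (ResidueField A) (ResidueField VN) := ⟨fun x => by
      haveI : Module.Free (ResidueField A) (ResidueField VN) := Module.Free.of_divisionRing _ _
      have h := Subalgebra.bot_eq_top_iff_finrank_eq_one.2 hk1.2
      obtain ⟨a, rfl⟩ := Algebra.mem_bot.1 (show x ∈ (⊥ : Subalgebra (ResidueField A) (ResidueField VN)) from h ▸ Algebra.mem_top)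
      exact isSeparable_algebraMap a⟩
    haveI := hs
    exact Algebra.IsSeparable.trans (ResidueField A) (ResidueField VN) (ResidueField W)

/-- The converse. -/
theorem tame_of_unramified_kummer (π : A) (hπ : maximalIdeal A = Ideal.span {π}) (e : ℕ) (he : 0 < e)
    (heA : (e : ResidueField A) ≠ 0) (M : Type u) [Field M] [Algebra K M] (φ : L →ₐ[K] M)
    [FiniteDimensional K M] [Algebra.IsSeparable K M] [Algebra (AdjoinRoot (X ^ e - C π : A[X])) M]
    (hg : (algebraMap (AdjoinRoot (X ^ e - C π : A[X])) M).comp (AdjoinRoot.of (X ^ e - C π)) =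
      (algebraMap K M).comp (algebraMap A K))
    (h : ∀ [IsLocalRing (AdjoinRoot (X ^ e - C π : A[X]))],
        EtRam.IsUnramifiedExt (AdjoinRoot (X ^ e - C π : A[X]))
          (algebraMap (AdjoinRoot (X ^ e - C π : A[X])) M)) :
    IsTamelyRamified A ((algebraMap K L).comp (algebraMap A K)) := by
  letI : Algebra L M := φ.toRingHom.toAlgebra
  haveI : IsScalarTower K L M := IsScalarTower.of_algebraMap_eq fun x => (φ.commutes x).symm
  haveI := isLocalRing_adjoinRoot hπ he
  have hπ' : Irreducible π := (IsDiscreteValuationRing.irreducible_iff_uniformizer π).2 hπ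
  refine (Groth.Agent.S1989.result A K L M).1 ?_
  intro W hW
  letI aAW : Algebra A W := (RingHom.codRestrict _ W hW.1).toAlgebra
  intro _
  let g := algebraMap (AdjoinRoot (X ^ e - C π : A[X])) M
  have hd : Dominates A (g.comp (AdjoinRoot.of _)) W := by rw [hg]; exact hW
  have hdg := dominates_of_adjoinRoot g hπ he hd
  obtain ⟨h1, h2⟩ := @h _ W hdg (isLocalHom_codRestrict hdg)
  obtain ⟨iw, is⟩ := data_iff g hπ he hd
  have h1' := iw.1 h1
  have h2' := is.1 h2
  refine ⟨?_, fun p hp hc hdvd => ?_⟩
  · convert h2' using 1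
    refine Algebra.algebra_ext _ _ fun x => ?_
    obtain ⟨a, rfl⟩ := residue_surjective x
    exact congrArg (residue W) (Subtype.ext (DFunLike.congr_fun hg a).symm)
  · haveI : IsDiscreteValuationRing W := isDiscreteValuationRing_of_dominates A K M hW
    have hinjW : Function.Injective (algebraMap A W) := fun a b hab =>
      IsFractionRing.injective A K ((algebraMap K M).injective (congrArg Subtype.val hab))
    obtain ⟨e', -, hem, hee⟩ := exists_map_maximalIdeal_eq_pow A W hinjW
    have heq : e' = e := by
      refine pow_maximalIdeal_injective W ?_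
      show maximalIdeal W ^ e' = maximalIdeal W ^ e
      rw [← hem, hπ, Ideal.map_span, Set.image_singleton, h1', Ideal.span_singleton_pow]
      congr 2
      refine Subtype.ext ?_
      rw [SubmonoidClass.coe_pow]
      show algebraMap K M (algebraMap A K π) = g (AdjoinRoot.root _) ^ e
      rw [← map_pow, root_pow]
      exact (DFunLike.congr_fun hg π).symm
    rw [hee, heq] at hdvd
    exact heA ((CharP.cast_eq_zero_iff (ResidueField A) p e).2 hdvd)

/-- An exponent absorbing all the ramification indices of a tame extension. -/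
theorem exists_ramification_bound (ht : IsTamelyRamified A ((algebraMap K L).comp (algebraMap A K))) :
    ∃ E : ℕ, 0 < E ∧ (E : ResidueField A) ≠ 0 ∧
      ∀ (V : ValuationSubring L) (hV : Dominates A ((algebraMap K L).comp (algebraMap A K)) V),
        letI := (RingHom.codRestrict _ V hV.1).toAlgebra
        Ideal.ramificationIdx' (maximalIdeal A) (maximalIdeal V) ∣ E := by
  classical
  let S := (Finset.Icc 1 (Module.finrank K L)).filter fun i : ℕ => (i : ResidueField A) ≠ 0
  have hEk : ((∏ i ∈ S, i : ℕ) : ResidueField A) ≠ 0 := by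
    rw [Nat.cast_prod]
    exact Finset.prod_ne_zero_iff.2 fun i hi => (Finset.mem_filter.1 hi).2
  refine ⟨∏ i ∈ S, i, Nat.pos_of_ne_zero fun h => hEk (by rw [h, Nat.cast_zero]), hEk, fun V hV => ?_⟩
  letI := (RingHom.codRestrict _ V hV.1).toAlgebra
  haveI : IsLocalHom (algebraMap A V) := isLocalHom_codRestrict hV
  obtain ⟨he1, hfin, hle⟩ := TameComp.ramificationIdx_mul_le hV
  obtain ⟨-, hp⟩ := @ht V hV (isLocalHom_codRestrict hV)
  refine Finset.dvd_prod_of_mem _ (Finset.mem_filter.2 ⟨Finset.mem_Icc.2 ⟨he1, ?_⟩, fun h0 => ?_⟩)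
  · exact (Nat.le_mul_of_pos_right _ Module.finrank_pos).trans hle
  · obtain ⟨p, hchar⟩ := CharP.exists (ResidueField A)
    rcases CharP.char_is_prime_or_zero (ResidueField A) p with hp' | rfl
    · exact hp p hp' hchar ((CharP.cast_eq_zero_iff (ResidueField A) p _).1 h0)
    · have := CharP.charP_to_charZero (ResidueField A)
      exact absurd (Nat.cast_eq_zero.1 h0) (by omega)

end Groth.Misc3Ram
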