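import Groth.Agent.Misc3Ram.UnramBaseChange
import Groth.Agent.Pi1Tame.KummerValuation
import Mathlib.FieldTheory.IsAlgClosed.AlgebraicClosure

/-!
# Base change of a tamely ramified extension along an extension of DVRs
-/

set_option autoImplicit false
set_option linter.style.haveILetI false
set_option linter.overlappingInstances false
universe u

namespace Groth.Misc3Ram

open IsLocalRing EtRam Groth.EtaleAlgebra

/-- `L(σ, v)` with `σ ^ m` a uniformizer and `v ^ m` a unit. -/
theorem kummer_step (B L : Type u) [CommRing B] [IsDomain B] [IsDiscreteValuationRing B] [Field L]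
    [Algebra B L] [IsFractionRing B L] (E : Type u) [Field E] [Algebra L E] [FiniteDimensional L E]
    (m : ℕ) (hm : 1 ≤ m) (hmu : IsUnit (m : B)) (ϖ : B) (hϖ : Irreducible ϖ) (u : Bˣ) (σ v : E)
    (hσ : σ ^ m = algebraMap L E (algebraMap B L ϖ)) (hv : v ^ m = algebraMap L E (algebraMap B L u))
    (hgen : Algebra.adjoin L ({σ, v} : Set E) = ⊤)
    (W : ValuationSubring E) (hW : Dominates B ((algebraMap L E).comp (algebraMap B L)) W) :
    letI := (RingHom.codRestrict _ W hW.1).toAlgebra
    haveI : IsLocalHom (algebraMap B W) := isLocalHom_codRestrict hW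
    Ideal.ramificationIdx' (maximalIdeal B) (maximalIdeal W) = m ∧
      Algebra.IsSeparable (ResidueField B) (ResidueField W) := by
  let V := W.comap (algebraMap L E)
  have hV : Dominates B (algebraMap B L) V := dominates_comp_iff.1 hW
  let β : B →+* V := RingHom.codRestrict _ V hV.1
  have hβs : Function.Surjective β := fun x => by
    obtain ⟨b, hb⟩ := exists_eq_of_mem_of_dominates (RingHom.id L) hV (x := (x : L)) x.2
    exact ⟨b, Subtype.ext hb⟩
  have hβi : Function.Injective β := fun a b hab =>
    IsFractionRing.injective B L (congrArg Subtype.val hab)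
  let e : B ≃+* V := RingEquiv.ofBijective β ⟨hβi, hβs⟩
  haveI : IsDiscreteValuationRing V := isDiscreteValuationRing_of_dominates B L L hV
  haveI : IsDiscreteValuationRing W := isDiscreteValuationRing_of_dominates B L E hW
  letI := (RingHom.codRestrict _ W hW.1).toAlgebra
  haveI : IsLocalHom (algebraMap B W) := isLocalHom_codRestrict hW
  letI := Groth.Pi1Tame.comapAlgebra (L := L) W
  haveI : IsLocalHom (algebraMap V W) := isLocalHom_inclOfComap W _
  have hset : insert σ (Set.range fun _ : Fin 1 => v) = ({σ, v} : Set E) := by simp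
  obtain ⟨hxW, hx1, hdiv, hsep⟩ := Groth.Pi1Tame.kummer_dominant W (fun _ : Fin 1 => v) (fun _ => m)
    (fun _ => by simpa using hmu.map β) (fun _ => Units.map e.toMonoidHom u) (fun _ => hv)
    (β ϖ) ((MulEquiv.irreducible_iff e).2 hϖ) σ 1 m hm (by rw [mul_one, hσ]; rfl) (one_mem _)
    (map_one _) (by rw [hset]; exact hgen)
  refine ⟨?_, ?_⟩
  · let x : W := ⟨σ, hxW⟩
    have hxm : maximalIdeal W = Ideal.span {x} := by
      refine le_antisymm (fun z hz => ?_)
        ((Ideal.span_singleton_le_iff_mem _).2 ((W.valuation_lt_one_iff x).2 hx1))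
      have hz1 := (W.valuation_lt_one_iff z).1 hz
      have hσ0 : σ ≠ 0 := fun h => by
        rw [h, zero_pow (by omega), eq_comm, map_eq_zero, map_eq_zero_iff _ (IsFractionRing.injective B L)] at hσ
        exact hϖ.ne_zero hσ
      refine Ideal.mem_span_singleton.2 ⟨⟨(z : E) / σ, hdiv _ hz1⟩, Subtype.ext ?_⟩
      show (z : E) = σ * ((z : E) / σ)
      rw [mul_div_cancel₀ _ hσ0]
    have hinj : Function.Injective (algebraMap B W) := fun a b hab =>
      IsFractionRing.injective B L ((algebraMap L E).injective (congrArg Subtype.val hab))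
    obtain ⟨k, -, hk, hk'⟩ := exists_map_maximalIdeal_eq_pow B W hinj
    rw [hk']
    refine pow_maximalIdeal_injective W ?_
    show maximalIdeal W ^ k = maximalIdeal W ^ m
    rw [← hk, hϖ.maximalIdeal_eq, Ideal.map_span, Set.image_singleton, hxm, Ideal.span_singleton_pow]
    congr 2
    exact Subtype.ext ((SubmonoidClass.coe_pow x m).trans hσ).symm
  · letI : Algebra B V := β.toAlgebra
    haveI : IsLocalHom (algebraMap B V) := isLocalHom_codRestrict hV
    haveI : IsScalarTower B V W := IsScalarTower.of_algebraMap_eq fun b => rfl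
    haveI : IsScalarTower (ResidueField B) (ResidueField V) (ResidueField W) :=
      IsScalarTower.of_algebraMap_eq fun x => by
        obtain ⟨a, rfl⟩ := residue_surjective x
        rw [ResidueField.algebraMap_residue, ResidueField.algebraMap_residue,
          ResidueField.algebraMap_residue, ← IsScalarTower.algebraMap_apply]
    have hs : Function.Surjective (algebraMap (ResidueField B) (ResidueField V)) := fun y => by
      obtain ⟨y, rfl⟩ := residue_surjective y
      obtain ⟨b, rfl⟩ := hβs y
      exact ⟨residue B b, ResidueField.algebraMap_residue _⟩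
    haveI : Algebra.IsSeparable (ResidueField B) (ResidueField V) := ⟨fun y => by
      obtain ⟨b, rfl⟩ := hs y
      exact isSeparable_algebraMap _⟩
    haveI := hsep
    exact Algebra.IsSeparable.trans (ResidueField B) (ResidueField V) (ResidueField W)

set_option synthInstance.maxHeartbeats 400000 in
set_option maxHeartbeats 2000000 in
/-- A tamely ramified extension of `K` stays tamely ramified in a compositum with `L`. -/
theorem tame_local (A B K L : Type u) [CommRing A] [IsDomain A] [IsDiscreteValuationRing A]
    [CommRing B] [IsDomain B] [IsDiscreteValuationRing B] [Algebra A B] [IsLocalHom (algebraMap A B)]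
    [Field K] [Field L] [Algebra A K] [IsFractionRing A K] [Algebra B L] [IsFractionRing B L]
    [Algebra K L] [Algebra A L] [IsScalarTower A K L] [IsScalarTower A B L]
    (hinj : Function.Injective (algebraMap A B))
    (K' : Type u) [Field K'] [Algebra K K'] [FiniteDimensional K K'] [Algebra.IsSeparable K K']
    (F : Type u) [Field F] [Algebra K F] [Algebra L F] [Algebra K' F] [IsScalarTower K L F]
    [IsScalarTower K K' F] [FiniteDimensional L F]
    (hadj : Algebra.adjoin L (Set.range (algebraMap K' F)) = ⊤)
    (ht : IsTamelyRamified A ((algebraMap K K').comp (algebraMap A K))) :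
    IsTamelyRamified B ((algebraMap L F).comp (algebraMap B L)) := by
  classical
  intro W0 hW0
  intro _
  -- the place of `K'` below and its ramification index
  let f := algebraMap K' F
  have hcomp : ((algebraMap L F).comp (algebraMap B L)).comp (algebraMap A B) =
      f.comp ((algebraMap K K').comp (algebraMap A K)) := RingHom.ext fun a => by
    show algebraMap L F (algebraMap B L (algebraMap A B a)) = f (algebraMap K K' (algebraMap A K a))
    rw [← IsScalarTower.algebraMap_apply A B L, IsScalarTower.algebraMap_apply A K L,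
      ← IsScalarTower.algebraMap_apply K L F, ← IsScalarTower.algebraMap_apply K K' F]
  let V' := W0.comap f
  have hV' : Dominates A ((algebraMap K K').comp (algebraMap A K)) V' := by
    refine dominates_comp_iff.1 ?_
    rw [← hcomp]
    exact ⟨fun a => hW0.1 _, fun a ha => hW0.2 _ ((map_mem_nonunits_iff (algebraMap A B) a).2 ha)⟩
  letI := (RingHom.codRestrict _ V' hV'.1).toAlgebra
  let m := Ideal.ramificationIdx' (maximalIdeal A) (maximalIdeal V')
  have hm : 1 ≤ m := (TameComp.ramificationIdx_mul_le hV').1
  obtain ⟨-, hp⟩ := @ht V' hV' (isLocalHom_codRestrict hV')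
  have hmA : IsUnit (m : A) := by
    rw [← residue_ne_zero_iff_isUnit, map_natCast]
    intro h0
    obtain ⟨p, hc⟩ := CharP.exists (ResidueField A)
    rcases CharP.char_is_prime_or_zero (ResidueField A) p with hp' | rfl
    · exact hp p hp' hc ((CharP.cast_eq_zero_iff (ResidueField A) p m).1 h0)
    · have := CharP.charP_to_charZero (ResidueField A)
      exact absurd (Nat.cast_eq_zero.1 h0) (by omega)
  have hmB : IsUnit (m : B) := by simpa using hmA.map (algebraMap A B)
  -- uniformizers
  obtain ⟨π, hπ⟩ := IsDiscreteValuationRing.exists_irreducible A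
  obtain ⟨ϖ, hϖ⟩ := IsDiscreteValuationRing.exists_irreducible B
  obtain ⟨n, u, hu⟩ := IsDiscreteValuationRing.eq_unit_mul_pow_irreducible
    (x := algebraMap A B π) (fun h => hπ.ne_zero (hinj (h.trans (map_zero _).symm))) hϖ
  let Ω := AlgebraicClosure F
  obtain ⟨s, hs⟩ := IsAlgClosed.exists_pow_nat_eq (k := Ω)
    (algebraMap F Ω (algebraMap L F (algebraMap B L ϖ))) (Nat.pos_of_ne_zero (by omega : m ≠ 0))
  obtain ⟨t, ht'⟩ := IsAlgClosed.exists_pow_nat_eq (k := Ω)
    (algebraMap F Ω (algebraMap L F (algebraMap B L u))) (Nat.pos_of_ne_zero (by omega : m ≠ 0))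
  let Fi := IntermediateField.adjoin F ({s, t} : Set Ω)
  haveI : FiniteDimensional F Fi := IntermediateField.finiteDimensional_adjoin
    (fun x _ => Algebra.IsIntegral.isIntegral x)
  let F₁ := ↥Fi
  let σ : F₁ := ⟨s, IntermediateField.subset_adjoin _ _ (Or.inl rfl)⟩
  let v : F₁ := ⟨t, IntermediateField.subset_adjoin _ _ (Or.inr rfl)⟩
  haveI : FiniteDimensional L F₁ := Module.Finite.trans F F₁
  haveI : Algebra.IsAlgebraic L F₁ := Algebra.IsAlgebraic.of_finite L F₁
  have hσ : σ ^ m = algebraMap L F₁ (algebraMap B L ϖ) := Subtype.ext hs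
  have hv : v ^ m = algebraMap L F₁ (algebraMap B L u) := Subtype.ext ht'
  letI : Algebra K' F₁ := ((algebraMap F F₁).comp (algebraMap K' F)).toAlgebra
  haveI : IsScalarTower K K' F₁ := IsScalarTower.of_algebraMap_eq fun k => by
    show algebraMap K F₁ k = algebraMap F F₁ (algebraMap K' F (algebraMap K K' k))
    rw [← IsScalarTower.algebraMap_apply K K' F, ← IsScalarTower.algebraMap_apply K F F₁]
  haveI : IsScalarTower K' F F₁ := IsScalarTower.of_algebraMap_eq fun _ => rfl
  haveI : IsScalarTower K L F₁ := IsScalarTower.of_algebraMap_eq fun k => by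
    rw [IsScalarTower.algebraMap_apply K F F₁, IsScalarTower.algebraMap_apply L F F₁,
      IsScalarTower.algebraMap_apply K L F]
  let θ : F₁ := σ ^ n * v
  have hθ : θ ^ m = algebraMap K F₁ (algebraMap A K π) := by
    rw [mul_pow, ← pow_mul, mul_comm n m, pow_mul, hσ, hv, IsScalarTower.algebraMap_apply K L F₁,
      ← IsScalarTower.algebraMap_apply A K L, IsScalarTower.algebraMap_apply A B L, hu, map_mul, map_pow,
      map_mul, map_pow]
    ring
  -- the extended valuation
  obtain ⟨W1, hW1⟩ := exists_comap_eq W0 (algebraMap F F₁)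
  have hW1B : Dominates B ((algebraMap L F₁).comp (algebraMap B L)) W1 := by
    rw [IsScalarTower.algebraMap_eq L F F₁, RingHom.comp_assoc]
    exact dominates_comp_iff.2 (hW1 ▸ hW0)
  have hW1A : Dominates A ((algebraMap K F₁).comp (algebraMap A K)) W1 := by
    have h : ((algebraMap K F₁).comp (algebraMap A K)) =
        (((algebraMap L F₁).comp (algebraMap B L)).comp (algebraMap A B)) := RingHom.ext fun a => by
      show algebraMap K F₁ (algebraMap A K a) = algebraMap L F₁ (algebraMap B L (algebraMap A B a))
      rw [← IsScalarTower.algebraMap_apply A B L, IsScalarTower.algebraMap_apply A K L,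
        ← IsScalarTower.algebraMap_apply K L F₁]
    rw [h]
    exact ⟨fun a => hW1B.1 _, fun a ha => hW1B.2 _ ((map_mem_nonunits_iff (algebraMap A B) a).2 ha)⟩
  -- the intermediate fields
  let N := IntermediateField.adjoin K ({θ} : Set F₁)
  let M := IntermediateField.adjoin K' ({θ} : Set F₁)
  let L₁ := IntermediateField.adjoin L ({σ, v} : Set F₁)
  have hθint : IsIntegral K' θ := ⟨Polynomial.X ^ m - Polynomial.C (algebraMap K K' (algebraMap A K π)),
      Polynomial.monic_X_pow_sub_C _ (by omega), by
        simp only [Polynomial.eval₂_sub, Polynomial.eval₂_X_pow, Polynomial.eval₂_C]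
        rw [hθ, ← IsScalarTower.algebraMap_apply K K' F₁, sub_self]⟩
  haveI : FiniteDimensional K' M := IntermediateField.adjoin.finiteDimensional hθint
  haveI : FiniteDimensional K M := Module.Finite.trans K' M
  haveI : FiniteDimensional K N := IntermediateField.adjoin.finiteDimensional
    ⟨Polynomial.X ^ m - Polynomial.C (algebraMap A K π), Polynomial.monic_X_pow_sub_C _ (by omega), by
      simp only [Polynomial.eval₂_sub, Polynomial.eval₂_X_pow, Polynomial.eval₂_C]
      rw [hθ, sub_self]⟩
  have hNM : N ≤ M.restrictScalars K := IntermediateField.adjoin_le_iff.2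
    (Set.singleton_subset_iff.2 (IntermediateField.subset_adjoin K' _ rfl))
  have hσL : σ ∈ L₁ := IntermediateField.subset_adjoin L _ (Or.inl rfl)
  have hvL : v ∈ L₁ := IntermediateField.subset_adjoin L _ (Or.inr rfl)
  have hθL : θ ∈ L₁ := mul_mem (pow_mem hσL n) hvL
  have hNL : N ≤ L₁.restrictScalars K := IntermediateField.adjoin_le_iff.2
    (Set.singleton_subset_iff.2 hθL)
  letI : Algebra N M := RingHom.toAlgebra
    { toFun := fun x => ⟨x.1, hNM x.2⟩, map_one' := rfl, map_mul' := fun _ _ => rfl,
      map_zero' := rfl, map_add' := fun _ _ => rfl }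
  letI : Algebra N L₁ := RingHom.toAlgebra
    { toFun := fun x => ⟨x.1, hNL x.2⟩, map_one' := rfl, map_mul' := fun _ _ => rfl,
      map_zero' := rfl, map_add' := fun _ _ => rfl }
  haveI : IsScalarTower K K' M := inferInstance
  haveI : IsScalarTower K N M := IsScalarTower.of_algebraMap_eq (R := K) (S := ↥N) (A := ↥M) fun k => Subtype.ext (by
    exact rfl)
  haveI : IsScalarTower N M F₁ := IsScalarTower.of_algebraMap_eq fun _ => rfl
  haveI : IsScalarTower N L₁ F₁ := IsScalarTower.of_algebraMap_eq fun _ => rfl
  have hadjNM : Algebra.adjoin K' (Set.range (algebraMap N M)) = ⊤ := by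
    refine eq_top_iff.2 fun x _ => ?_
    have hx : (x : F₁) ∈ Algebra.adjoin K' ({θ} : Set F₁) := by
      rw [← IntermediateField.adjoin_simple_toSubalgebra_of_isAlgebraic hθint.isAlgebraic]
      exact x.2
    have hle : Algebra.adjoin K' ({θ} : Set F₁) ≤
        (Algebra.adjoin K' (Set.range (algebraMap N M))).map M.val :=
      Algebra.adjoin_le (Set.singleton_subset_iff.2
        ⟨_, Algebra.subset_adjoin ⟨⟨θ, IntermediateField.subset_adjoin K _ rfl⟩, rfl⟩, rfl⟩)
    obtain ⟨y, hy, hxy⟩ := hle hx
    exact (Subtype.ext hxy : y = x) ▸ hy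
  haveI : IsScalarTower K M F₁ := IsScalarTower.of_algebraMap_eq (R := K) (S := ↥M) (A := F₁) fun k => by
    rw [IsScalarTower.algebraMap_apply K K' M, ← IsScalarTower.algebraMap_apply K' M F₁]
    exact IsScalarTower.algebraMap_apply K K' F₁ k
  let WM := W1.comap (algebraMap M F₁)
  have hWM : Dominates A ((algebraMap K M).comp (algebraMap A K)) WM := dominates_restrict hW1A
  have hstep := TameComp.step (A := A) (L := K') (K₁ := N) (M := M) hadjNM ht hWM (by
    have hWN := dominates_restrict (L := N) hWM
    letI := (RingHom.codRestrict _ _ hWN.1).toAlgebra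
    have hm' : Ideal.ramificationIdx' (maximalIdeal A) (maximalIdeal V') ∣
        Ideal.ramificationIdx' (maximalIdeal A) (maximalIdeal (WM.comap (algebraMap N M))) :=
      TameComp.dvd_ramificationIdx hπ (by omega : m ≠ 0)
        (x := (⟨θ, IntermediateField.subset_adjoin K _ rfl⟩ : N)) (Subtype.ext hθ) hWN
    have hEq : WM.comap (algebraMap K' M) = V' := by
      ext x
      show algebraMap F F₁ (algebraMap K' F x) ∈ W1 ↔ algebraMap K' F x ∈ W0
      rw [← hW1]
      rfl
    have key : ∀ (U : ValuationSubring K') (hU : Dominates A ((algebraMap K K').comp (algebraMap A K)) U),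
        U = V' →
        letI := (RingHom.codRestrict _ U hU.1).toAlgebra
        Ideal.ramificationIdx' (maximalIdeal A) (maximalIdeal U) = m := by
      rintro U hU rfl
      rfl
    exact (key _ (dominates_restrict (L := K') hWM) hEq).symm ▸ hm')
  -- unramified base change from `N` to `L₁`
  let VN := W1.comap (algebraMap N F₁)
  let BL := W1.comap (algebraMap L₁ F₁)
  have hVN : Dominates A ((algebraMap K N).comp (algebraMap A K)) VN := dominates_restrict hW1A
  have hBL : Dominates B ((algebraMap L L₁).comp (algebraMap B L)) BL := dominates_restrict hW1B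
  haveI : FiniteDimensional L L₁ := FiniteDimensional.left L L₁ F₁
  haveI : IsDiscreteValuationRing VN := isDiscreteValuationRing_of_dominates A K N hVN
  haveI : IsDiscreteValuationRing BL := isDiscreteValuationRing_of_dominates B L L₁ hBL
  letI aVB : Algebra VN BL := RingHom.toAlgebra
    { toFun := fun x => ⟨algebraMap N L₁ x.1, x.2⟩, map_one' := rfl, map_mul' := fun _ _ => rfl,
      map_zero' := rfl, map_add' := fun _ _ => rfl }
  haveI : IsLocalHom (algebraMap VN BL) := ⟨fun a ha => by
    by_contra h
    have h1 := (VN.valuation_lt_one_iff a).1 ((mem_maximalIdeal _).2 h)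
    rw [valuation_lt_one_iff_mem_nonunits, mem_nonunits_comap] at h1
    have h2 : (algebraMap VN BL a : L₁) ∈ BL.nonunits := mem_nonunits_comap.2 h1
    exact (mem_maximalIdeal _).1 ((BL.valuation_lt_one_iff (algebraMap VN BL a)).2
      (valuation_lt_one_iff_mem_nonunits.2 h2)) ha⟩
  haveI : IsFractionRing VN N := inferInstance
  haveI : IsFractionRing BL L₁ := inferInstance
  letI : Algebra VN L₁ := ((algebraMap N L₁).comp (algebraMap VN N)).toAlgebra
  haveI : IsScalarTower VN N L₁ := IsScalarTower.of_algebraMap_eq fun _ => rfl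
  haveI : IsScalarTower VN BL L₁ := IsScalarTower.of_algebraMap_eq fun _ => rfl
  haveI : FiniteDimensional N M := FiniteDimensional.right K N M
  have hgenF : Algebra.adjoin F ({σ, v} : Set F₁) = ⊤ := by
    have := (IntermediateField.adjoin_toSubalgebra (F := F) (S := ({s, t} : Set Ω)))
    refine eq_top_iff.2 fun x _ => ?_
    have hx : (x : Ω) ∈ Algebra.adjoin F ({s, t} : Set Ω) := this ▸ x.2
    have hle : Algebra.adjoin F ({s, t} : Set Ω) ≤ (Algebra.adjoin F ({σ, v} : Set F₁)).map Fi.val := by
      refine Algebra.adjoin_le ?_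
      rintro _ (rfl | rfl)
      · exact ⟨σ, Algebra.subset_adjoin (Or.inl rfl), rfl⟩
      · exact ⟨v, Algebra.subset_adjoin (Or.inr rfl), rfl⟩
    obtain ⟨y, hy, hxy⟩ := hle hx
    exact (Subtype.ext hxy : y = x) ▸ hy
  have hadjLM : Algebra.adjoin L₁ (Set.range (algebraMap M F₁)) = ⊤ := by
    refine eq_top_iff.2 fun x _ => ?_
    have hx : x ∈ Algebra.adjoin F ({σ, v} : Set F₁) := hgenF ▸ Algebra.mem_top
    induction hx using Algebra.adjoin_induction with
    | mem y hy =>
      have hy' : y ∈ L₁ := IntermediateField.subset_adjoin L _ hy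
      exact Subalgebra.algebraMap_mem _ (⟨y, hy'⟩ : L₁)
    | algebraMap z =>
      have hz : z ∈ Algebra.adjoin L (Set.range (algebraMap K' F)) := hadj ▸ Algebra.mem_top
      induction hz using Algebra.adjoin_induction with
      | mem y hy =>
        obtain ⟨k, rfl⟩ := hy
        exact Algebra.subset_adjoin ⟨algebraMap K' M k, rfl⟩
      | algebraMap l =>
        rw [← IsScalarTower.algebraMap_apply L F F₁, IsScalarTower.algebraMap_apply L L₁ F₁]
        exact Subalgebra.algebraMap_mem _ _
      | add a b _ _ ha hb => rw [map_add]; exact add_mem (ha trivial) (hb trivial)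
      | mul a b _ _ ha hb => rw [map_mul]; exact mul_mem (ha trivial) (hb trivial)
    | add a b _ _ ha hb => exact add_mem (ha trivial) (hb trivial)
    | mul a b _ _ ha hb => exact mul_mem (ha trivial) (hb trivial)
  have hWL : Dominates BL ((algebraMap L₁ F₁).comp (algebraMap BL L₁)) W1 := dominates_comap
  have hN1 : VN = (W1.comap (algebraMap M F₁)).comap (algebraMap N M) := rfl
  obtain ⟨hw1, hs1⟩ := unramified_local VN BL N L₁
    (fun a b hab => Subtype.ext ((algebraMap N L₁).injective (congrArg Subtype.val hab)))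
    M F₁ hadjLM W1 hWL (fun hV => hstep)
  -- the Kummer layer
  have hgenL : Algebra.adjoin L ({(⟨σ, IntermediateField.subset_adjoin L _ (Or.inl rfl)⟩ : L₁),
      ⟨v, IntermediateField.subset_adjoin L _ (Or.inr rfl)⟩} : Set L₁) = ⊤ := by
    refine eq_top_iff.2 fun x _ => ?_
    have hx : (x : F₁) ∈ Algebra.adjoin L ({σ, v} : Set F₁) := by
      rw [← IntermediateField.adjoin_toSubalgebra (F := L) (S := ({σ, v} : Set F₁))]
      exact x.2
    have hle : Algebra.adjoin L ({σ, v} : Set F₁) ≤ (Algebra.adjoin L
        ({(⟨σ, IntermediateField.subset_adjoin L _ (Or.inl rfl)⟩ : L₁),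
          ⟨v, IntermediateField.subset_adjoin L _ (Or.inr rfl)⟩} : Set L₁)).map L₁.val := by
      refine Algebra.adjoin_le ?_
      rintro _ (rfl | rfl)
      · exact ⟨_, Algebra.subset_adjoin (Or.inl rfl), rfl⟩
      · exact ⟨_, Algebra.subset_adjoin (Or.inr rfl), rfl⟩
    obtain ⟨y, hy, hxy⟩ := hle hx
    exact (Subtype.ext hxy : y = x) ▸ hy
  obtain ⟨he, hs2⟩ := kummer_step B L L₁ m hm hmB ϖ hϖ u _ _ (Subtype.ext hσ) (Subtype.ext hv) hgenL BL hBL
  -- assemble
  haveI : IsDiscreteValuationRing W1 := isDiscreteValuationRing_of_dominates B L F₁ hW1B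
  have hBW := tower_data (A := B) (K := L) (L := L₁) (M := F₁) (W := W1) (V := BL) rfl hBL hW1B dominates_comap
  obtain ⟨hmul, -, hsep⟩ := hBW
  have hd0 : Dominates W0 ((algebraMap F F₁).comp W0.subtype) W1 := by
    subst hW1; exact dominates_comap
  obtain ⟨hmul0, -, hsep0⟩ := tower_data (A := B) (K := L) (L := F) (M := F₁) hW1 hW0 hW1B hd0
  letI := (RingHom.codRestrict _ W1 hWL.1).toAlgebra
  haveI : IsLocalHom (algebraMap BL W1) := isLocalHom_codRestrict hWL
  have hinjW : Function.Injective (algebraMap BL W1) := fun a b hab => by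
    have h := congrArg Subtype.val hab
    exact Subtype.ext ((algebraMap L₁ F₁).injective h)
  have he1 := (weaklyUnramified_iff BL W1 hinjW).1 hw1
  refine ⟨(hsep0.1 (hsep.2 ⟨hs2, hs1⟩)).1, fun p hp' hc hd => ?_⟩
  letI := (RingHom.codRestrict _ W1 hd0.1).toAlgebra
  have hd1 := hd.mul_right (Ideal.ramificationIdx' (maximalIdeal W0) (maximalIdeal W1))
  letI := (RingHom.codRestrict _ BL hBL.1).toAlgebra
  rw [← hmul0, hmul, he] at hd1
  erw [he1, mul_one] at hd1
  have : (m : ResidueField B) = 0 := (CharP.cast_eq_zero_iff (ResidueField B) p m).2 hd1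
  rw [← map_natCast (residue B), residue_eq_zero_iff] at this
  exact (mem_maximalIdeal _).1 this hmB

end Groth.Misc3Ram
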